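import Mathlib
import Cfsg.Agent.Lib.GeomClasses.Basic

/-!
A subgroup of `GL(F^m ⊗ U)` containing the root elements of the left factor: the algebra of right coefficients
and the stabiliser of a root kernel.
-/

set_option autoImplicit false
set_option linter.unusedSectionVars false
set_option linter.unusedSimpArgs false

namespace CfsgLib.TensorWreathMax

open Matrix Module
open scoped Kronecker

attribute [-simp] Matrix.coe_units_inv

variable {F : Type*} [Field F] {m : ℕ} {μ : Type} [Fintype μ] [DecidableEq μ]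

/-- A matrix of an element of the group. -/
def In {ι : Type} [Fintype ι] [DecidableEq ι] (M : Subgroup (GL ι F)) (X : Matrix ι ι F) : Prop :=
  ∃ g ∈ M, (g : Matrix ι ι F) = X

section In

variable {ι : Type} [Fintype ι] [DecidableEq ι] {M : Subgroup (GL ι F)}

theorem In.one : In M 1 := ⟨1, M.one_mem, Units.val_one⟩

theorem In.mul {X Y : Matrix ι ι F} (hX : In M X) (hY : In M Y) : In M (X * Y) := by
  obtain ⟨g, hg, rfl⟩ := hX
  obtain ⟨h, hh, rfl⟩ := hY
  exact ⟨g * h, M.mul_mem hg hh, Units.val_mul g h⟩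

theorem In.inv {X Y : Matrix ι ι F} (hX : In M X) (h : X * Y = 1) : In M Y := by
  obtain ⟨g, hg, rfl⟩ := hX
  refine ⟨g⁻¹, M.inv_mem hg, ?_⟩
  rw [← mul_one (((g⁻¹ : GL ι F) : Matrix ι ι F)), ← h, ← mul_assoc, Units.inv_mul, one_mul]

theorem In.neg {X : Matrix ι ι F} (hX2 : X * X = 0) (hX : In M (1 + X)) : In M (1 - X) :=
  hX.inv (by rw [add_mul, one_mul, mul_sub, mul_one, hX2]; abel)

theorem In.add {X Y : Matrix ι ι F} (hXY : X * Y = 0) (hX : In M (1 + X)) (hY : In M (1 + Y)) :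
    In M (1 + (X + Y)) := by
  have := hX.mul hY
  rwa [add_mul, one_mul, mul_add, mul_one, hXY, add_zero, add_assoc, add_comm Y X] at this

theorem In.comm {A B : Matrix ι ι F} (hA : A * A = 0) (hB : B * B = 0) (hBA : B * A = 0)
    (hA' : In M (1 + A)) (hB' : In M (1 + B)) : In M (1 + A * B) := by
  have h := ((hA'.mul hB').mul (hA'.neg hA)).mul (hB'.neg hB)
  have hA2 : ∀ z, A * (A * z) = 0 := fun z => by rw [← mul_assoc, hA, zero_mul]
  have hB2 : ∀ z, B * (B * z) = 0 := fun z => by rw [← mul_assoc, hB, zero_mul]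
  have hBA2 : ∀ z, B * (A * z) = 0 := fun z => by rw [← mul_assoc, hBA, zero_mul]
  have e : (1 + A) * (1 + B) * (1 - A) * (1 - B) = 1 + A * B := by
    simp only [add_mul, mul_add, sub_mul, mul_sub, one_mul, mul_one, mul_assoc, hA, hB, hBA, hA2, hB2, hBA2,
      mul_zero, zero_mul, add_zero, zero_add, sub_zero]
    abel
  rwa [e] at h

/-- The root element of `g` applied to a root element. -/
theorem In.conj {g : GL ι F} {X : Matrix ι ι F} (hg : g ∈ M) (hX : In M (1 + X)) :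
    In M (1 + (g : Matrix ι ι F) * X * ((g⁻¹ : GL ι F) : Matrix ι ι F)) := by
  have h1 : In M (g : Matrix ι ι F) := ⟨g, hg, rfl⟩
  have h2 : In M ((g⁻¹ : GL ι F) : Matrix ι ι F) := ⟨g⁻¹, M.inv_mem hg, rfl⟩
  have h := (h1.mul hX).mul h2
  rwa [mul_add, mul_one, add_mul, Units.mul_inv] at h

end In

/-! ### Pure tensors and contractions -/

/-- `u ↦ a ⊗ u`. -/
def pl (a : Fin m → F) : (μ → F) →ₗ[F] (Fin m × μ → F) where
  toFun u := fun i => a i.1 * u i.2
  map_add' u v := by ext; simp [mul_add]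
  map_smul' c u := by ext; simp [mul_left_comm]

/-- Contraction with a functional of the left factor. -/
def ct (φ : Fin m → F) : (Fin m × μ → F) →ₗ[F] (μ → F) where
  toFun z := fun x => ∑ i, φ i * z (i, x)
  map_add' u v := by ext; simp [mul_add, Finset.sum_add_distrib]
  map_smul' c u := by ext; simp [Finset.mul_sum, mul_left_comm]

theorem ct_pl (φ a : Fin m → F) (u : μ → F) : ct φ (pl a u) = (φ ⬝ᵥ a) • u := by
  ext x
  simp [ct, pl, dotProduct, Finset.sum_mul, mul_assoc]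

theorem ct_single (k : Fin m) (z : Fin m × μ → F) (x : μ) :
    ct (Pi.single k 1) z x = z (k, x) := by
  simp [ct, Pi.single_apply, Finset.sum_ite_eq']

theorem eq_sum_pl (z : Fin m × μ → F) : z = ∑ k, pl (Pi.single k 1) (ct (Pi.single k 1) z) := by
  ext ⟨i, x⟩
  rw [Finset.sum_apply, Finset.sum_eq_single i]
  · show z (i, x) = (Pi.single i 1 : Fin m → F) i * ct (Pi.single i 1) z x
    rw [Pi.single_eq_same, one_mul, ct_single]
  · intro k _ hk
    simp [pl, Pi.single_eq_of_ne hk.symm]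
  · simp

theorem ext_pl {A B : Matrix (Fin m × μ) (Fin m × μ) F} (h : ∀ a u, A *ᵥ pl a u = B *ᵥ pl a u) : A = B := by
  refine Matrix.ext_of_mulVec_single fun ⟨i, x⟩ => ?_
  have e : (Pi.single (i, x) (1 : F) : Fin m × μ → F) = pl (Pi.single i 1) (Pi.single x 1) := by
    ext ⟨j, y⟩
    simp only [pl, LinearMap.coe_mk, AddHom.coe_mk, Pi.single_apply, Prod.mk.injEq]
    by_cases hj : j = i <;> by_cases hy : y = x <;> simp [hj, hy]
  rw [e]
  exact h _ _

theorem kronecker_mulVec_pl (A : Matrix (Fin m) (Fin m) F) (B : Matrix μ μ F) (a : Fin m → F) (u : μ → F) :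
    (A ⊗ₖ B) *ᵥ pl a u = pl (A *ᵥ a) (B *ᵥ u) := by
  ext ⟨i, x⟩
  simp only [Matrix.mulVec, dotProduct, pl, LinearMap.coe_mk, AddHom.coe_mk, Fintype.sum_prod_type,
    Matrix.kroneckerMap_apply, Finset.sum_mul_sum]
  exact Finset.sum_congr rfl fun c _ => Finset.sum_congr rfl fun d _ => by ring

theorem pl_smul_left (c : F) (a : Fin m → F) (u : μ → F) : pl (c • a) u = c • pl a u := by
  ext; simp [pl, mul_assoc]

theorem pl_add_left (a b : Fin m → F) (u : μ → F) : pl (a + b) u = pl a u + pl b u := by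
  ext; simp [pl, add_mul]

theorem pl_sub_left (a b : Fin m → F) (u : μ → F) : pl (a - b) u = pl a u - pl b u := by
  ext; simp [pl, sub_mul]

theorem exists_dot_eq_one {n : ℕ} {v : Fin n → F} (hv : v ≠ 0) : ∃ θ : Fin n → F, θ ⬝ᵥ v = 1 := by
  obtain ⟨i, hi⟩ := Function.ne_iff.1 hv
  exact ⟨Pi.single i (v i)⁻¹, by rw [single_dotProduct, inv_mul_cancel₀ hi]⟩

theorem exists_dot_eq_one' {n : ℕ} {φ : Fin n → F} (hv : φ ≠ 0) : ∃ b : Fin n → F, φ ⬝ᵥ b = 1 := by
  obtain ⟨b, hb⟩ := exists_dot_eq_one hv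
  exact ⟨b, by rw [dotProduct_comm, hb]⟩

theorem exists_perp_eq_one {n : ℕ} {x y : Fin n → F} (h : ∀ c : F, y ≠ c • x) :
    ∃ θ : Fin n → F, θ ⬝ᵥ x = 0 ∧ θ ⬝ᵥ y = 1 := by
  obtain ⟨φ, hφ, hφW⟩ := GeomClasses.exists_separating (W := Submodule.span F {x}) (u := y)
    (fun hm => by obtain ⟨c, hc⟩ := Submodule.mem_span_singleton.1 hm; exact h c hc.symm)
  exact ⟨(φ ⬝ᵥ y)⁻¹ • φ, by rw [smul_dotProduct, hφW x (Submodule.mem_span_singleton_self x), smul_zero],
    by rw [smul_dotProduct, smul_eq_mul, inv_mul_cancel₀ hφ]⟩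

theorem exists_perp_perp {n : ℕ} (hn : 3 ≤ n) (x y : Fin n → F) :
    ∃ θ : Fin n → F, θ ≠ 0 ∧ θ ⬝ᵥ x = 0 ∧ θ ⬝ᵥ y = 0 := by
  let f : (Fin n → F) →ₗ[F] F × F := ((dotProductBilin F F).flip x).prod ((dotProductBilin F F).flip y)
  obtain ⟨θ, hθ, hθ0⟩ := (Submodule.ne_bot_iff _).1 (LinearMap.ker_ne_bot_of_finrank_lt (f := f)
    (by rw [Module.finrank_prod, Module.finrank_self, Module.finrank_fintype_fun_eq_card, Fintype.card_fin]; omega))
  rw [LinearMap.mem_ker] at hθ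
  exact ⟨θ, hθ0, by simpa [f] using congrArg Prod.fst hθ, by simpa [f] using congrArg Prod.snd hθ⟩

theorem exists_perp_indep {n : ℕ} (hn : 3 ≤ n) (x y : Fin n → F) :
    ∃ θ : Fin n → F, θ ⬝ᵥ x = 0 ∧ ∀ c : F, θ ≠ c • y := by
  let f : (Fin n → F) →ₗ[F] F := (dotProductBilin F F).flip x
  have h1 := LinearMap.finrank_range_add_finrank_ker f
  have h2 := Submodule.finrank_le (LinearMap.range f)
  rw [Module.finrank_self] at h2
  rw [Module.finrank_fintype_fun_eq_card, Fintype.card_fin] at h1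
  have h3 : Module.finrank F (Submodule.span F {y}) ≤ 1 := by
    rcases eq_or_ne y 0 with rfl | hy
    · rw [Submodule.span_zero_singleton, finrank_bot]; exact Nat.zero_le _
    · rw [finrank_span_singleton hy]
  obtain ⟨θ, hθ, hθy⟩ := SetLike.not_le_iff_exists.1
    (fun hle : LinearMap.ker f ≤ Submodule.span F {y} => by have := Submodule.finrank_mono hle; omega)
  exact ⟨θ, by simpa [f] using hθ, fun c hc => hθy (Submodule.mem_span_singleton.2 ⟨c, hc.symm⟩)⟩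

/-- `z ↦ a ⊗ Y (φ z)`. -/
def nm (a φ : Fin m → F) (Y : Matrix μ μ F) : Matrix (Fin m × μ) (Fin m × μ) F := vecMulVec a φ ⊗ₖ Y

theorem nm_mulVec (a φ : Fin m → F) (Y : Matrix μ μ F) (z : Fin m × μ → F) :
    nm a φ Y *ᵥ z = pl a (Y *ᵥ ct φ z) := by
  ext ⟨i, x⟩
  simp only [nm, Matrix.mulVec, dotProduct, pl, ct, LinearMap.coe_mk, AddHom.coe_mk, Fintype.sum_prod_type,
    Matrix.kroneckerMap_apply, Matrix.vecMulVec_apply, Finset.mul_sum]
  rw [Finset.sum_comm]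
  exact Finset.sum_congr rfl fun c _ => Finset.sum_congr rfl fun d _ => by ring

theorem nm_mul (a φ b ψ : Fin m → F) (Y Z : Matrix μ μ F) :
    nm a φ Y * nm b ψ Z = (φ ⬝ᵥ b) • nm a ψ (Y * Z) := by
  rw [nm, nm, ← Matrix.mul_kronecker_mul, vecMulVec_mul_vecMulVec, vecMulVec_smul, smul_kronecker, nm]

theorem nm_sq {a φ : Fin m → F} (h : φ ⬝ᵥ a = 0) (Y : Matrix μ μ F) : nm a φ Y * nm a φ Y = 0 := by
  rw [nm_mul, h, zero_smul]

theorem nm_add (a φ : Fin m → F) (Y Z : Matrix μ μ F) : nm a φ (Y + Z) = nm a φ Y + nm a φ Z :=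
  kronecker_add _ _ _

theorem nm_add_right (a φ ψ : Fin m → F) (Y : Matrix μ μ F) : nm a (φ + ψ) Y = nm a φ Y + nm a ψ Y := by
  rw [nm, vecMulVec_add, add_kronecker, nm, nm]

theorem nm_add_left (a b φ : Fin m → F) (Y : Matrix μ μ F) : nm (a + b) φ Y = nm a φ Y + nm b φ Y := by
  rw [nm, add_vecMulVec, add_kronecker, nm, nm]

theorem nm_smul (c : F) (a φ : Fin m → F) (Y : Matrix μ μ F) : nm a φ (c • Y) = nm (c • a) φ Y := by
  rw [nm, nm, smul_vecMulVec, smul_kronecker, kronecker_smul]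

section algebra

variable (M : Subgroup (GL (Fin m × μ) F))

/-- All the root elements of the left factor. -/
def HasRoots : Prop := ∀ a φ : Fin m → F, φ ⬝ᵥ a = 0 → In M (1 + nm a φ 1)

/-- A right coefficient of root elements. -/
def Good (Y : Matrix μ μ F) : Prop := ∀ a φ : Fin m → F, φ ⬝ᵥ a = 0 → In M (1 + nm a φ Y)

/-- Only scalars occur as right coefficients. -/
def OnlyScalar : Prop := ∀ Y : Matrix μ μ F, Good M Y → ∃ c : F, Y = c • 1

variable {M}

/-- One root element with coefficient `Y` gives all of them. -/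
theorem good_of_one (hm : 3 ≤ m) (hR : HasRoots M) {a φ : Fin m → F} (ha : a ≠ 0) (hφ : φ ≠ 0)
    (haφ : φ ⬝ᵥ a = 0) {Y : Matrix μ μ F} (hY : In M (1 + nm a φ Y)) : Good M Y := by
  -- change the functional
  have hF₀ : ∀ {a φ : Fin m → F}, φ ≠ 0 → φ ⬝ᵥ a = 0 → In M (1 + nm a φ Y) →
      ∀ ψ, ψ ⬝ᵥ a = 0 → (∀ c : F, ψ ≠ c • φ) → In M (1 + nm a ψ Y) := by
    intro a φ hφ haφ hY ψ hψ hind
    obtain ⟨b, hbψ, hbφ⟩ := exists_perp_eq_one (x := ψ) (y := φ) (fun c hc => by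
      rcases eq_or_ne c 0 with rfl | hc0
      · exact hφ (by rw [hc, zero_smul])
      · exact hind c⁻¹ (by rw [hc, smul_smul, inv_mul_cancel₀ hc0, one_smul]))
    rw [dotProduct_comm] at hbψ hbφ
    have := In.comm (nm_sq haφ Y) (nm_sq hbψ 1) (by rw [nm_mul, hψ, zero_smul]) hY (hR b ψ hbψ)
    rwa [nm_mul, hbφ, one_smul, Matrix.mul_one] at this
  have hF : ∀ {a φ : Fin m → F}, φ ≠ 0 → φ ⬝ᵥ a = 0 → In M (1 + nm a φ Y) →
      ∀ ψ, ψ ⬝ᵥ a = 0 → In M (1 + nm a ψ Y) := by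
    intro a φ hφ haφ hY ψ hψ
    by_cases hind : ∀ c : F, ψ ≠ c • φ
    · exact hF₀ hφ haφ hY ψ hψ hind
    push Not at hind
    obtain ⟨c, rfl⟩ := hind
    obtain ⟨θ, hθa, hθφ⟩ := exists_perp_indep hm a φ
    have hθ0 : θ ≠ 0 := fun h => hθφ 0 (by rw [h, zero_smul])
    rcases eq_or_ne c 0 with rfl | hc0
    · rw [zero_smul, nm, vecMulVec_zero, zero_kronecker, add_zero]; exact In.one
    refine hF₀ hθ0 hθa (hF₀ hφ haφ hY θ hθa hθφ) _ hψ fun d hd => ?_
    rcases eq_or_ne d 0 with rfl | hd0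
    · rw [zero_smul, smul_eq_zero] at hd
      exact hd.elim hc0 hφ
    · exact hθφ (d⁻¹ * c) (by rw [← smul_smul, hd, smul_smul, inv_mul_cancel₀ hd0, one_smul])
  -- change the vector
  have hA₀ : ∀ {a φ : Fin m → F}, a ≠ 0 → φ ⬝ᵥ a = 0 → In M (1 + nm a φ Y) →
      ∀ b, φ ⬝ᵥ b = 0 → (∀ c : F, b ≠ c • a) → In M (1 + nm b φ Y) := by
    intro a φ ha haφ hY b hb hind
    obtain ⟨χ, hχb, hχa⟩ := exists_perp_eq_one (x := b) (y := a) (fun c hc => by
      rcases eq_or_ne c 0 with rfl | hc0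
      · exact ha (by rw [hc, zero_smul])
      · exact hind c⁻¹ (by rw [hc, smul_smul, inv_mul_cancel₀ hc0, one_smul]))
    have := In.comm (nm_sq hχb 1) (nm_sq haφ Y) (by rw [nm_mul, hb, zero_smul]) (hR b χ hχb) hY
    rwa [nm_mul, hχa, one_smul, Matrix.one_mul] at this
  have hA : ∀ {a φ : Fin m → F}, a ≠ 0 → φ ⬝ᵥ a = 0 → In M (1 + nm a φ Y) →
      ∀ b, φ ⬝ᵥ b = 0 → In M (1 + nm b φ Y) := by
    intro a φ ha haφ hY b hb
    by_cases hind : ∀ c : F, b ≠ c • a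
    · exact hA₀ ha haφ hY b hb hind
    push Not at hind
    obtain ⟨c, rfl⟩ := hind
    obtain ⟨θ, hθφ, hθa⟩ := exists_perp_indep hm φ a
    rw [dotProduct_comm] at hθφ
    have hθ0 : θ ≠ 0 := fun h => hθa 0 (by rw [h, zero_smul])
    rcases eq_or_ne c 0 with rfl | hc0
    · rw [zero_smul, nm, zero_vecMulVec, zero_kronecker, add_zero]; exact In.one
    refine hA₀ hθ0 hθφ (hA₀ ha haφ hY θ hθφ hθa) _ hb fun d hd => ?_
    rcases eq_or_ne d 0 with rfl | hd0
    · rw [zero_smul, smul_eq_zero] at hd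
      exact hd.elim hc0 ha
    · exact hθa (d⁻¹ * c) (by rw [← smul_smul, hd, smul_smul, inv_mul_cancel₀ hd0, one_smul])
  intro c χ hcχ
  obtain ⟨φ', hφ'0, hφ'a, hφ'c⟩ := exists_perp_perp hm a c
  exact hF hφ'0 hφ'c (hA ha hφ'a (hF hφ haφ hY φ' hφ'a) c hφ'c) χ hcχ

theorem good_one (hR : HasRoots M) : Good M (1 : Matrix μ μ F) := hR

theorem Good.add {Y Z : Matrix μ μ F} (hY : Good M Y) (hZ : Good M Z) : Good M (Y + Z) := fun a φ h => by
  rw [nm_add]
  exact In.add (by rw [nm_mul, h, zero_smul]) (hY a φ h) (hZ a φ h)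

theorem Good.smul {Y : Matrix μ μ F} (hY : Good M Y) (c : F) : Good M (c • Y) := fun a φ h => by
  rw [nm_smul]
  exact hY _ _ (by rw [dotProduct_smul, h, smul_zero])

theorem Good.sub {Y Z : Matrix μ μ F} (hY : Good M Y) (hZ : Good M Z) : Good M (Y - Z) := by
  rw [sub_eq_add_neg, ← neg_one_smul F Z]
  exact hY.add (hZ.smul _)

theorem Good.mul (hm : 3 ≤ m) (hR : HasRoots M) {Y Z : Matrix μ μ F} (hY : Good M Y) (hZ : Good M Z) :
    Good M (Y * Z) := by
  have : NeZero m := ⟨by omega⟩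
  let i : Fin m := ⟨0, by omega⟩
  let j : Fin m := ⟨1, by omega⟩
  let k : Fin m := ⟨2, by omega⟩
  let a : Fin m → F := Pi.single i 1
  let φ : Fin m → F := Pi.single j 1
  let ψ : Fin m → F := Pi.single k 1
  have hij : i ≠ j := by simp [i, j]
  have hik : i ≠ k := by simp [i, k]
  have hjk : j ≠ k := by simp [j, k]
  have h1 : φ ⬝ᵥ a = 0 := by simp [φ, a, single_dotProduct, Pi.single_apply, hij.symm]
  have h2 : ψ ⬝ᵥ φ = 0 := by simp [φ, ψ, single_dotProduct, Pi.single_apply, hjk.symm]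
  have h3 : ψ ⬝ᵥ a = 0 := by simp [ψ, a, single_dotProduct, Pi.single_apply, hik.symm]
  have h4 : φ ⬝ᵥ φ = 1 := by simp [φ, single_dotProduct]
  have := In.comm (nm_sq h1 Y) (nm_sq h2 Z) (by rw [nm_mul, h3, zero_smul]) (hY a φ h1) (hZ φ ψ h2)
  rw [nm_mul, h4, one_smul] at this
  exact good_of_one hm hR (by simp [a]) (by simp [ψ]) h3 this

/-- The coefficients are invariant under the right factor. -/
theorem Good.conj {Y : Matrix μ μ F} (hY : Good M Y) {τ τ' : Matrix μ μ F} (h' : τ * τ' = 1)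
    (hτ : In M ((1 : Matrix (Fin m) (Fin m) F) ⊗ₖ τ)) : Good M (τ * Y * τ') := fun a φ h => by
  have h1 := (hτ.mul (hY a φ h)).mul
    (hτ.inv (Y := (1 : Matrix (Fin m) (Fin m) F) ⊗ₖ τ') (by
      rw [← Matrix.mul_kronecker_mul, one_mul, h', one_kronecker_one]))
  rwa [mul_add, mul_one, add_mul, ← Matrix.mul_kronecker_mul, one_mul, h', one_kronecker_one, nm,
    ← Matrix.mul_kronecker_mul, ← Matrix.mul_kronecker_mul, Matrix.one_mul, Matrix.mul_one] at h1

end algebra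

/-! ### The stabiliser of a root kernel -/

/-- The kernel of the contraction. -/
def kK (φ : Fin m → F) : Submodule F (Fin m × μ → F) := LinearMap.ker (ct φ)

theorem mem_kK {φ : Fin m → F} {z : Fin m × μ → F} : z ∈ (kK φ : Submodule F (Fin m × μ → F)) ↔ ct φ z = 0 :=
  LinearMap.mem_ker

/-- An element which conjugates the root elements into the group and fixes a root kernel is a tensor. -/
theorem kernel_stab (hm : 3 ≤ m) {M : Subgroup (GL (Fin m × μ) F)} (hR : HasRoots M) (hs : OnlyScalar M)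
    {g : GL (Fin m × μ) F}
    (hg : ∀ a φ : Fin m → F, φ ⬝ᵥ a = 0 → In M (1 + (g : Matrix _ _ F) * nm a φ 1 * ((g⁻¹ : GL (Fin m × μ) F) :
      Matrix _ _ F)))
    {φ : Fin m → F} (hφ : φ ≠ 0) (hK : ∀ z : Fin m × μ → F, ct φ z = 0 → ct φ ((g : Matrix (Fin m × μ) (Fin m × μ) F) *ᵥ z) = 0) :
    ∃ (A : Matrix (Fin m) (Fin m) F) (τ : Matrix μ μ F), (g : Matrix _ _ F) = A ⊗ₖ τ := by
  classical
  rcases isEmpty_or_nonempty μ with hμ | hμ
  · exact ⟨1, 1, by ext ⟨i, x⟩; exact isEmptyElim x⟩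
  set G := (g : Matrix (Fin m × μ) (Fin m × μ) F) with hG
  set G' := ((g⁻¹ : GL (Fin m × μ) F) : Matrix (Fin m × μ) (Fin m × μ) F) with hG'
  have hGG : ∀ z, G *ᵥ (G' *ᵥ z) = z := fun z => by
    rw [Matrix.mulVec_mulVec, hG, hG', Units.mul_inv, Matrix.one_mulVec]
  have hG'G : ∀ z, G' *ᵥ (G *ᵥ z) = z := fun z => by
    rw [Matrix.mulVec_mulVec, hG, hG', Units.inv_mul, Matrix.one_mulVec]
  obtain ⟨b, hb⟩ := exists_dot_eq_one' hφ
  let τl : (μ → F) →ₗ[F] (μ → F) := ct φ ∘ₗ Matrix.toLin' G ∘ₗ pl b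
  have hτl : ∀ z, ct φ (G *ᵥ z) = τl (ct φ z) := fun z => by
    have h0 : ct φ (z - pl b (ct φ z)) = 0 := by rw [map_sub, ct_pl, hb, one_smul, sub_self]
    have h1 := hK _ h0
    rw [Matrix.mulVec_sub, map_sub, sub_eq_zero] at h1
    exact h1
  have hsurj : Function.Surjective τl := fun u => ⟨ct φ (G' *ᵥ pl b u), by
    rw [← hτl, hGG, ct_pl, hb, one_smul]⟩
  have hinj : Function.Injective τl := LinearMap.injective_iff_surjective.2 hsurj
  let τe := LinearEquiv.ofBijective τl ⟨hinj, hsurj⟩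
  have hG'φ : ∀ z, ct φ (G' *ᵥ z) = τe.symm (ct φ z) := fun z => by
    rw [LinearEquiv.eq_symm_apply]
    show τl _ = _
    rw [← hτl, hGG]
  let Tn : Matrix μ μ F := LinearMap.toMatrix' (τe.symm : (μ → F) →ₗ[F] (μ → F))
  have hTn : ∀ u, Tn *ᵥ u = τe.symm u := fun u => LinearMap.toMatrix'_mulVec _ _
  -- root conjugates with axis `K`
  have hX : ∀ a, φ ⬝ᵥ a = 0 → ∀ χ, χ ⬝ᵥ a = 0 → ∀ z, (G * nm a χ 1 * G') *ᵥ z = G *ᵥ pl a (ct χ (G' *ᵥ z)) :=
    fun a _ χ _ z => by rw [← Matrix.mulVec_mulVec, ← Matrix.mulVec_mulVec, nm_mulVec, Matrix.one_mulVec]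
  have hXX : ∀ a χ : Fin m → F, χ ⬝ᵥ a = 0 → G * nm a χ 1 * G' * (G * nm a χ 1 * G') = 0 := fun a χ h => by
    rw [show G * nm a χ 1 * G' * (G * nm a χ 1 * G') = G * (nm a χ 1 * (G' * G) * nm a χ 1) * G' by
      simp only [mul_assoc], hG, hG', Units.inv_mul, mul_one, nm_sq h]
    simp
  -- the image of `a ⊗ U` for `a` in the axis
  have hker : ∀ a, φ ⬝ᵥ a = 0 → ∃ β : Fin m → F, φ ⬝ᵥ β = 0 ∧ ∀ u, G *ᵥ pl a (τe.symm u) = pl β u := by
    intro a ha
    have hcoef : ∀ χ : Fin m → F, ∃ d : F, ∀ u, ct χ (G *ᵥ pl a (τe.symm u)) = d • u := by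
      intro χ
      obtain ⟨c, hc0, hcφ, hcχ⟩ := exists_perp_perp hm φ χ
      rw [dotProduct_comm] at hcφ hcχ
      have h2 : (G * nm a φ 1 * G') * nm c χ 1 = 0 := by
        refine Matrix.ext_of_mulVec_single fun i => ?_
        rw [← Matrix.mulVec_mulVec, hX a ha φ ha, nm_mulVec, hG'φ, ct_pl, hcφ, Matrix.zero_mulVec]
        simp
      let Yl : (μ → F) →ₗ[F] (μ → F) := ct χ ∘ₗ Matrix.toLin' G ∘ₗ pl a ∘ₗ (τe.symm : (μ → F) →ₗ[F] (μ → F))
      have h3 : nm c χ 1 * (G * nm a φ 1 * G') = nm c φ (LinearMap.toMatrix' Yl) := by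
        refine Matrix.ext_of_mulVec_single fun i => ?_
        rw [← Matrix.mulVec_mulVec, hX a ha φ ha, nm_mulVec, nm_mulVec, Matrix.one_mulVec, hG'φ,
          LinearMap.toMatrix'_mulVec]
        rfl
      have h4 := In.comm (nm_sq hcχ 1) (hXX a φ ha) h2 (hR c χ hcχ) (hg a φ ha)
      rw [h3] at h4
      obtain ⟨d, hd⟩ := hs _ (good_of_one hm hR hc0 hφ hcφ h4)
      refine ⟨d, fun u => ?_⟩
      have h5 := congrArg (fun Y : Matrix μ μ F => Y *ᵥ u) hd
      simp only [LinearMap.toMatrix'_mulVec, Matrix.smul_mulVec, Matrix.one_mulVec] at h5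
      exact h5
    choose d hd using hcoef
    refine ⟨fun k => d (Pi.single k 1), ?_, fun u => ?_⟩
    · obtain ⟨x⟩ := hμ
      have h := congrFun (hd φ (Pi.single x 1)) x
      rw [hτl, ct_pl, ha, zero_smul, map_zero, Pi.smul_apply, Pi.single_eq_same] at h
      have h' : ∀ u, ct φ (G *ᵥ pl a (τe.symm u)) = (∑ k, φ k * d (Pi.single k 1)) • u := fun u => by
        rw [eq_sum_pl (G *ᵥ pl a (τe.symm u)), map_sum]
        simp only [ct_pl, hd, smul_smul, ← Finset.sum_smul, dotProduct_single, mul_one]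
      have h2 := congrFun (h' (Pi.single x 1)) x
      rw [hτl, ct_pl, ha, zero_smul, map_zero, Pi.smul_apply, Pi.single_eq_same] at h2
      simpa [dotProduct] using h2.symm
    · ext ⟨k, y⟩
      rw [← ct_single k (G *ᵥ pl a (τe.symm u)) y, hd]
      simp [pl]
  -- the inverse on all pure tensors
  have hinv : ∀ c χ : Fin m → F, ∃ d : F, ∀ u, ct χ (G' *ᵥ pl c u) = d • τe.symm u := by
    intro c χ
    obtain ⟨a, ha0, haφ, haχ⟩ := exists_perp_perp hm φ χ
    rw [dotProduct_comm] at haφ haχ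
    obtain ⟨β, hβφ, hβ⟩ := hker a haφ
    have hβ0 : β ≠ 0 := by
      intro h0
      obtain ⟨x⟩ := hμ
      obtain ⟨θ, hθ⟩ := exists_dot_eq_one ha0
      have h1 := hβ (τl (Pi.single x 1))
      rw [h0, show τe.symm (τl (Pi.single x 1)) = Pi.single x 1 from τe.symm_apply_apply _] at h1
      have h2 := congrArg (fun z => ct θ (G' *ᵥ z)) h1
      simp only [hG'G, ct_pl, hθ, one_smul] at h2
      have h3 : (pl (0 : Fin m → F) (τl (Pi.single x (1 : F)))) = 0 := by ext; simp [pl]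
      rw [h3, Matrix.mulVec_zero, map_zero] at h2
      simpa using congrFun h2 x
    obtain ⟨ψ, hψ0, hψc, hψβ⟩ := exists_perp_perp hm c β
    let Λ : (μ → F) →ₗ[F] (μ → F) := τl ∘ₗ ct χ ∘ₗ Matrix.toLin' G' ∘ₗ pl c
    have hXz : ∀ z, (G * nm a χ 1 * G') *ᵥ z = pl β (τl (ct χ (G' *ᵥ z))) := fun z => by
      rw [hX a haφ χ haχ, ← hβ, show τe.symm (τl (ct χ (G' *ᵥ z))) = ct χ (G' *ᵥ z) from τe.symm_apply_apply _]
    have h2 : nm c ψ 1 * (G * nm a χ 1 * G') = 0 := by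
      refine Matrix.ext_of_mulVec_single fun i => ?_
      rw [← Matrix.mulVec_mulVec, hXz, nm_mulVec, ct_pl, hψβ, Matrix.zero_mulVec]
      simp
    have h3 : (G * nm a χ 1 * G') * nm c ψ 1 = nm β ψ (LinearMap.toMatrix' Λ) := by
      refine Matrix.ext_of_mulVec_single fun i => ?_
      rw [← Matrix.mulVec_mulVec, hXz, nm_mulVec, nm_mulVec, Matrix.one_mulVec, LinearMap.toMatrix'_mulVec]
      rfl
    have h4 := In.comm (hXX a χ haχ) (nm_sq hψc 1) h2 (hg a χ haχ) (hR c ψ hψc)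
    rw [h3] at h4
    obtain ⟨d, hd⟩ := hs _ (good_of_one hm hR hβ0 hψ0 hψβ h4)
    refine ⟨d, fun u => ?_⟩
    have h5 := congrArg (fun Y : Matrix μ μ F => Y *ᵥ u) hd
    simp only [LinearMap.toMatrix'_mulVec, Matrix.smul_mulVec, Matrix.one_mulVec] at h5
    have h6 := congrArg τe.symm h5
    rw [map_smul] at h6
    rw [← h6]
    exact (τe.symm_apply_apply _).symm
  choose d hd using hinv
  let A' : Matrix (Fin m) (Fin m) F := fun k j => d (Pi.single j 1) (Pi.single k 1)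
  have hG'eq : G' = A' ⊗ₖ Tn := by
    refine Matrix.ext_of_mulVec_single fun ⟨j, x⟩ => ?_
    have e : (Pi.single (j, x) (1 : F) : Fin m × μ → F) = pl (Pi.single j 1) (Pi.single x 1) := by
      ext ⟨i, y⟩
      simp only [pl, LinearMap.coe_mk, AddHom.coe_mk, Pi.single_apply, Prod.mk.injEq]
      by_cases hi : i = j <;> by_cases hy : y = x <;> simp [hi, hy]
    rw [e, kronecker_mulVec_pl, Matrix.mulVec_single_one, hTn]
    ext ⟨k, y⟩
    rw [← ct_single k (G' *ᵥ _) y, hd]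
    simp only [pl, A', Matrix.mulVec_single_one, Matrix.col_apply, LinearMap.coe_mk, AddHom.coe_mk, Pi.smul_apply,
      smul_eq_mul]
    rfl
  refine ⟨A'⁻¹, Tn⁻¹, ?_⟩
  rw [← Matrix.inv_kronecker, ← hG'eq, hG', ← Matrix.coe_units_inv, inv_inv]

end CfsgLib.TensorWreathMax
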