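import Mathlib
import Cfsg.Agent.Lib.TensorWreathMax.Basic

/-!
Sandwiching by matrix units, and tensors fixing a large subspace of a root kernel.
-/

set_option autoImplicit false
set_option linter.unusedSectionVars false
set_option linter.unusedSimpArgs false

namespace CfsgLib.TensorWreathMax

open Matrix Module
open scoped Kronecker

section units

variable {R : Type*} [Ring R] {m : ℕ} {E : Fin m → Fin m → R}

/-- A difference closed predicate invariant under conjugation by `1 + E k l` is closed under sandwiching. -/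
theorem sandwich (hm : 3 ≤ m) (hE : ∀ a b c d, E a b * E c d = if b = c then E a d else 0)
    {P : R → Prop} (hsub : ∀ {X Y}, P X → P Y → P (X - Y))
    (hconj : ∀ {k l X}, k ≠ l → P X → P ((1 + E k l) * X * (1 - E k l)))
    {k l : Fin m} (hkl : k ≠ l) {Y : R} (hY : P Y) : P (E k l * Y * E k l) := by
  obtain ⟨s, hsk, hsl⟩ : ∃ s : Fin m, s ≠ k ∧ s ≠ l := by
    by_contra h
    push Not at h
    have : (Finset.univ : Finset (Fin m)) ⊆ {k, l} := fun s _ => by
      by_cases h1 : s = k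
      · simp [h1]
      · simp [h s h1]
    have := (Finset.card_le_card this).trans Finset.card_le_two
    simp at this
    omega
  have hD : ∀ {a b X}, a ≠ b → P X → P (E a b * X - X * E a b - E a b * X * E a b) := by
    intro a b X hab hX
    have h := hsub (hconj hab hX) hX
    have e : (1 + E a b) * X * (1 - E a b) - X = E a b * X - X * E a b - E a b * X * E a b := by
      noncomm_ring
    rwa [e] at h
  have h0 : P (0 : R) := by simpa using hsub hY hY
  have h1 := hD hsl (hD (fun h => hsk h.symm : k ≠ s) (hD hkl hY))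
  have e1 : E k s * E k l = 0 := by rw [hE, if_neg hsk]
  have e2 : E k l * E k s = 0 := by rw [hE, if_neg hkl.symm]
  have e3 : E s l * E k s = 0 := by rw [hE, if_neg hkl.symm]
  have e4 : E s l * E k l = 0 := by rw [hE, if_neg hkl.symm]
  have e5 : E k l * E s l = 0 := by rw [hE, if_neg (fun h => hsl h.symm)]
  have e6 : E k s * E s l = E k l := by rw [hE, if_pos rfl]
  have f1 : ∀ z, E k s * (E k l * z) = 0 := fun z => by rw [← mul_assoc, e1, zero_mul]
  have f2 : ∀ z, E k l * (E k s * z) = 0 := fun z => by rw [← mul_assoc, e2, zero_mul]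
  have f3 : ∀ z, E s l * (E k s * z) = 0 := fun z => by rw [← mul_assoc, e3, zero_mul]
  have f4 : ∀ z, E s l * (E k l * z) = 0 := fun z => by rw [← mul_assoc, e4, zero_mul]
  have f5 : ∀ z, E k l * (E s l * z) = 0 := fun z => by rw [← mul_assoc, e5, zero_mul]
  have f6 : ∀ z, E k s * (E s l * z) = E k l * z := fun z => by rw [← mul_assoc, e6]
  simp only [sub_mul, mul_sub, mul_assoc, e1, e2, e3, e4, e5, e6, f1, f2, f3, f4, f5, f6, mul_zero, zero_mul,
    sub_zero, zero_sub, mul_neg, neg_mul, neg_neg, sub_neg_eq_add, zero_add, add_zero, sub_self] at h1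
  simpa [mul_assoc] using h1

/-- Something which does not commute with all matrix units has a non-zero sandwich, up to one commutation step. -/
theorem exists_sandwich_ne_zero (hm : 3 ≤ m) (hE : ∀ a b c d, E a b * E c d = if b = c then E a d else 0)
    (hsum : ∑ a, E a a = 1)
    {P : R → Prop} (hsub : ∀ {X Y}, P X → P Y → P (X - Y))
    (hconj : ∀ {k l X}, k ≠ l → P X → P ((1 + E k l) * X * (1 - E k l)))
    {Y : R} (hY : P Y) (hnc : ¬ ∀ a b, E a b * Y = Y * E a b) :
    ∃ k l X, k ≠ l ∧ P X ∧ E k l * X * E k l ≠ 0 := by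
  by_contra hcon
  push Not at hcon
  have hE' : ∀ a b c, E a b * E b c = E a c := fun a b c => by rw [hE, if_pos rfl]
  have hoff : ∀ {X}, P X → ∀ a b, a ≠ b → E a a * X * E b b = 0 := by
    intro X hX a b hab
    have h := hcon b a X hab.symm hX
    calc E a a * X * E b b = E a b * (E b a * X * E b a) * E a b := by
          rw [show E a b * (E b a * X * E b a) * E a b = E a b * E b a * X * (E b a * E a b) by noncomm_ring,
            hE', hE']
      _ = 0 := by rw [h, mul_zero, zero_mul]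
  have hl : ∀ a, E a a * Y = E a a * Y * E a a := by
    intro a
    conv_lhs => rw [← mul_one (E a a * Y), ← hsum, Finset.mul_sum]
    exact Finset.sum_eq_single a (fun b _ hb => hoff hY a b hb.symm) (by simp)
  have hr : ∀ a, Y * E a a = E a a * Y * E a a := by
    intro a
    conv_lhs => rw [← one_mul Y, ← hsum, Finset.sum_mul, Finset.sum_mul]
    exact Finset.sum_eq_single a (fun b _ hb => hoff hY b a hb) (by simp)
  refine hnc fun a b => ?_
  rcases eq_or_ne a b with rfl | hab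
  · rw [hl, hr]
  have h := hsub (hconj hab.symm hY) hY
  have h2 := hcon a b _ hab h
  have e2 : E a b * E a b = 0 := by rw [hE, if_neg hab.symm]
  have e3 : E a b * E b a = E a a := hE' a b a
  have e4 : E b a * E a b = E b b := hE' b a b
  have e : E a b * ((1 + E b a) * Y * (1 - E b a) - Y) * E a b =
      E a b * E b a * Y * E a b - E a b * Y * (E b a * E a b) - E a b * E b a * Y * (E b a * E a b) := by
    noncomm_ring
  rw [e, e3, e4, hoff hY a b hab, sub_zero, sub_eq_zero] at h2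
  calc E a b * Y = E a b * (E b b * Y) := by rw [← mul_assoc, hE']
    _ = E a b * (Y * E b b) := by rw [hl, hr]
    _ = E a a * Y * E a b := by rw [← mul_assoc, h2]
    _ = Y * E a a * E a b := by rw [hr a, ← hl a]
    _ = Y * E a b := by rw [mul_assoc, hE']

end units

section rigid

variable {F : Type*} [Field F] {μ : Type} [Fintype μ] [DecidableEq μ]

/-- A quadratic without roots annihilates only endomorphisms of even dimensional spaces. -/
theorem even_of_quadratic {V : Type*} [AddCommGroup V] [Module F V] [FiniteDimensional F V] (f : V →ₗ[F] V)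
    {α β : F} (hα : α ≠ 0) (hroot : ∀ x : F, α * x ^ 2 + β * x - 1 ≠ 0)
    (hf : ∀ v, α • f (f v) + β • f v - v = 0) : Even (Module.finrank F V) := by
  classical
  let P : Polynomial F := Polynomial.X ^ 2 + Polynomial.C (β / α) * Polynomial.X - Polynomial.C α⁻¹
  have hdeg : P.natDegree = 2 := by simp only [P]; compute_degree!
  have hirr : Irreducible P := by
    refine Polynomial.irreducible_of_degree_le_three_of_not_isRoot (by rw [hdeg]; simp) fun x hx => hroot x ?_
    simp only [P, Polynomial.IsRoot.def, Polynomial.eval_sub, Polynomial.eval_add, Polynomial.eval_pow,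
      Polynomial.eval_X, Polynomial.eval_C, Polynomial.eval_mul] at hx
    field_simp at hx
    linear_combination hx
  haveI := Fact.mk hirr
  have hev : Polynomial.aeval f P = 0 := by
    refine LinearMap.ext fun v => ?_
    simp only [P, map_sub, map_add, map_mul, map_pow, Polynomial.aeval_X, Polynomial.aeval_C, LinearMap.zero_apply,
      LinearMap.sub_apply, LinearMap.add_apply, Module.End.mul_apply, pow_two, Module.algebraMap_end_apply]
    refine (smul_eq_zero.1 ?_).resolve_left hα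
    rw [← hf v, smul_sub, smul_add, smul_smul, smul_smul, mul_div_cancel₀ _ hα, mul_inv_cancel₀ hα, one_smul]
  let ψ : AdjoinRoot P →ₐ[F] Module.End F V := Ideal.Quotient.liftₐ (Ideal.span {P}) (Polynomial.aeval f) fun Q hQ => by
    obtain ⟨R', rfl⟩ := Ideal.mem_span_singleton.1 hQ
    rw [map_mul, hev, zero_mul]
  letI : Module (AdjoinRoot P) V := Module.compHom V ψ.toRingHom
  haveI : IsScalarTower F (AdjoinRoot P) V := ⟨fun c x v => by
    show ψ (c • x) v = c • ψ x v
    rw [map_smul]; rfl⟩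
  rw [← Module.finrank_mul_finrank F (AdjoinRoot P) V, PowerBasis.finrank (AdjoinRoot.powerBasis hirr.ne_zero),
    AdjoinRoot.powerBasis_dim, hdeg]
  exact even_two_mul _

variable {m : ℕ}

/-- A tensor fixing pointwise a subspace which supplements each `a ⊗ U` in a root kernel fixes the kernel. -/
theorem rigid (hm : 3 ≤ m) (hodd : m = 3 → Odd (Fintype.card μ)) {φ : Fin m → F}
    {A : Matrix (Fin m) (Fin m) F} {τ : Matrix μ μ F}
    (hA : ∀ a, φ ⬝ᵥ a = 0 → φ ⬝ᵥ (A *ᵥ a) = 0)
    {D : Submodule F (Fin m × μ → F)} (hD : ∀ v ∈ D, (A ⊗ₖ τ) *ᵥ v = v)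
    (hsup : ∀ a, a ≠ 0 → φ ⬝ᵥ a = 0 → kK φ ≤ D ⊔ LinearMap.range (pl a)) :
    ∀ z, ct φ z = 0 → (A ⊗ₖ τ) *ᵥ z = z := by
  classical
  rcases isEmpty_or_nonempty μ with hμ | ⟨⟨x₀⟩⟩
  · intro z _; ext ⟨i, x⟩; exact isEmptyElim x
  have hmove : ∀ a c, a ≠ 0 → φ ⬝ᵥ a = 0 → φ ⬝ᵥ c = 0 → ∀ u, ∃ u',
      pl (A *ᵥ c) (τ *ᵥ u) - pl c u = pl (A *ᵥ a) (τ *ᵥ u') - pl a u' := by
    intro a c ha0 ha hc u
    obtain ⟨v, hv, w, ⟨u', rfl⟩, hvw⟩ := Submodule.mem_sup.1 (hsup a ha0 ha
      (mem_kK.2 (by rw [ct_pl, hc, zero_smul] : ct φ (pl c u) = 0)))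
    refine ⟨u', ?_⟩
    rw [← kronecker_mulVec_pl, ← hvw, Matrix.mulVec_add, hD v hv, kronecker_mulVec_pl]
    abel
  have hkill : ∀ a c θ : Fin m → F, a ≠ 0 → φ ⬝ᵥ a = 0 → φ ⬝ᵥ c = 0 → θ ⬝ᵥ a = 0 → θ ⬝ᵥ (A *ᵥ a) = 0 →
      θ ⬝ᵥ c = 1 → ∃ t : F, τ = t • 1 := by
    intro a c θ ha0 ha hc hθa hθA hθc
    have h : ∀ u, (θ ⬝ᵥ (A *ᵥ c)) • (τ *ᵥ u) = u := fun u => by
      obtain ⟨u', hu'⟩ := hmove a c ha0 ha hc u
      have h1 := congrArg (ct θ) hu'
      simp only [map_sub, ct_pl, hθa, hθA, hθc, one_smul, zero_smul, sub_self, sub_eq_zero] at h1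
      exact h1
    have hne : θ ⬝ᵥ (A *ᵥ c) ≠ 0 := fun h0 => by
      have := congrFun (h (Pi.single x₀ 1)) x₀
      rw [h0, zero_smul] at this
      simp at this
    refine ⟨(θ ⬝ᵥ (A *ᵥ c))⁻¹, Matrix.ext_of_mulVec_single fun x => ?_⟩
    rw [Matrix.smul_mulVec, Matrix.one_mulVec]
    conv_rhs => rw [← h (Pi.single x 1)]
    rw [smul_smul, inv_mul_cancel₀ hne, one_smul]
  have hscalar : (∃ t : F, τ = t • 1) → ∀ z, ct φ z = 0 → (A ⊗ₖ τ) *ᵥ z = z := by
    rintro ⟨t, rfl⟩
    have hB : ∀ a c, a ≠ 0 → φ ⬝ᵥ a = 0 → φ ⬝ᵥ c = 0 →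
        ∃ s : F, t • (A *ᵥ c) - c = s • (t • (A *ᵥ a) - a) := by
      intro a c ha0 ha hc
      obtain ⟨u', hu'⟩ := hmove a c ha0 ha hc (Pi.single x₀ 1)
      refine ⟨u' x₀, funext fun i => ?_⟩
      have := congrFun hu' (i, x₀)
      simp [pl, Matrix.smul_mulVec] at this ⊢
      linear_combination this
    obtain ⟨a₀, ha₀, ha₀φ, -⟩ := exists_perp_perp hm φ φ
    rw [dotProduct_comm] at ha₀φ
    obtain ⟨a, ha0, haφ, haB⟩ : ∃ a, a ≠ 0 ∧ φ ⬝ᵥ a = 0 ∧ t • (A *ᵥ a) - a = 0 := by
      obtain ⟨c, hcφ, hcind⟩ := exists_perp_indep hm φ a₀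
      rw [dotProduct_comm] at hcφ
      obtain ⟨s, hs⟩ := hB a₀ c ha₀ ha₀φ hcφ
      refine ⟨c - s • a₀, sub_ne_zero.2 (hcind s), by rw [dotProduct_sub, dotProduct_smul, hcφ, ha₀φ]; simp, ?_⟩
      rw [Matrix.mulVec_sub, Matrix.mulVec_smul, smul_sub, smul_comm t s,
        show t • (A *ᵥ c) - s • t • (A *ᵥ a₀) - (c - s • a₀) =
          (t • (A *ᵥ c) - c) - s • (t • (A *ᵥ a₀) - a₀) by rw [smul_sub]; abel, hs, sub_self]
    intro z hz
    conv_rhs => rw [eq_sum_pl z]
    obtain ⟨b, hb⟩ : ∃ b, φ ⬝ᵥ b = 1 ∨ φ = 0 := by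
      rcases eq_or_ne φ 0 with h | h
      · exact ⟨0, Or.inr h⟩
      · obtain ⟨b, hb⟩ := exists_dot_eq_one' h
        exact ⟨b, Or.inl hb⟩
    have hfix : ∀ c u, φ ⬝ᵥ c = 0 → (A ⊗ₖ (t • (1 : Matrix μ μ F))) *ᵥ pl c u = pl c u := by
      intro c u hc
      obtain ⟨s, hs⟩ := hB a c ha0 haφ hc
      rw [haB, smul_zero, sub_eq_zero] at hs
      rw [kronecker_mulVec_pl, Matrix.smul_mulVec, Matrix.one_mulVec, map_smul, ← pl_smul_left, hs]
    rcases hb with hb | hb
    · have e : z = ∑ k, pl (Pi.single k 1 - (φ ⬝ᵥ Pi.single k 1) • b) (ct (Pi.single k 1) z) := by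
        simp only [pl_sub_left, pl_smul_left, Finset.sum_sub_distrib]
        rw [← eq_sum_pl z]
        have : ∑ k, (φ ⬝ᵥ Pi.single k 1) • pl b (ct (Pi.single k 1) z) = pl b (ct φ z) := by
          conv_rhs => rw [eq_sum_pl z]
          simp only [map_sum, ct_pl, map_smul]
        rw [this, hz, map_zero, sub_zero]
      rw [← eq_sum_pl z]
      conv_lhs => rw [e]
      rw [Matrix.mulVec_sum]
      conv_rhs => rw [e]
      exact Finset.sum_congr rfl fun k _ => hfix _ _ (by
        rw [dotProduct_sub, dotProduct_smul, hb, smul_eq_mul, mul_one, sub_self])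
    · conv_lhs => rw [eq_sum_pl z]
      rw [Matrix.mulVec_sum]
      exact Finset.sum_congr rfl fun k _ => hfix _ _ (by rw [hb, zero_dotProduct])
  by_cases heig : ∃ (a : Fin m → F) (lam : F), a ≠ 0 ∧ φ ⬝ᵥ a = 0 ∧ A *ᵥ a = lam • a
  · obtain ⟨a, lam, ha0, ha, hAa⟩ := heig
    obtain ⟨c, hc, hind⟩ := exists_perp_indep hm φ a
    rw [dotProduct_comm] at hc
    obtain ⟨θ, hθa, hθc⟩ := exists_perp_eq_one hind
    exact hscalar (hkill a c θ ha0 ha hc hθa (by rw [hAa, dotProduct_smul, hθa, smul_zero]) hθc)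
  push Not at heig
  obtain ⟨a, ha0, ha, -⟩ := exists_perp_perp hm φ φ
  rw [dotProduct_comm] at ha
  by_cases hspan : ∃ c, φ ⬝ᵥ c = 0 ∧ c ∉ Submodule.span F ({a, A *ᵥ a} : Set (Fin m → F))
  · obtain ⟨c, hc, hcW⟩ := hspan
    obtain ⟨θ, hθ, hθW⟩ := GeomClasses.exists_separating hcW
    refine hscalar (hkill a c ((θ ⬝ᵥ c)⁻¹ • θ) ha0 ha hc ?_ ?_ ?_)
    · rw [smul_dotProduct, hθW a (Submodule.subset_span (by simp)), smul_zero]
    · have h0 : θ ⬝ᵥ (A *ᵥ a) = 0 := hθW _ (Submodule.subset_span (Set.mem_insert_of_mem _ rfl))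
      rw [smul_dotProduct, h0, smul_zero]
    · rw [smul_dotProduct, smul_eq_mul, inv_mul_cancel₀ hθ]
  push Not at hspan
  set b := A *ᵥ a with hbdef
  have hbφ : φ ⬝ᵥ b = 0 := hA a ha
  obtain rfl : m = 3 := by
    let f : (Fin m → F) →ₗ[F] F := dotProductBilin F F φ
    have hle : LinearMap.ker f ≤ Submodule.span F (↑({a, b} : Finset (Fin m → F))) := fun c hc => by
      simpa using hspan c (LinearMap.mem_ker.1 hc)
    have h1 := Submodule.finrank_mono hle
    have h2 := LinearMap.finrank_range_add_finrank_ker f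
    have h3 := Submodule.finrank_le (LinearMap.range f)
    have h4 := (finrank_span_finset_le_card (R := F) ({a, b} : Finset (Fin m → F))).trans Finset.card_le_two
    rw [Module.finrank_self] at h3
    rw [Module.finrank_fintype_fun_eq_card, Fintype.card_fin] at h2
    rw [Set.finrank] at h4
    omega
  obtain ⟨θb, hθba, hθbb⟩ := exists_perp_eq_one (fun c hc => heig a c ha0 ha hc)
  obtain ⟨θa, hθab, hθaa⟩ := exists_perp_eq_one (x := b) (y := a) (fun c hc => by
    rcases eq_or_ne c 0 with rfl | hc0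
    · exact ha0 (by rw [hc, zero_smul])
    · exact heig a c⁻¹ ha0 ha (by
        show b = _
        conv_rhs => rw [hc]
        rw [smul_smul, inv_mul_cancel₀ hc0, one_smul]))
  obtain ⟨α, β, hAb⟩ := Submodule.mem_span_pair.1 (hspan _ (hA b hbφ))
  have hb0 : b ≠ 0 := fun h => heig a 0 ha0 ha (by rw [← hbdef, h, zero_smul])
  have hα : α ≠ 0 := by
    rintro rfl
    rw [zero_smul, zero_add] at hAb
    exact heig b β hb0 hbφ hAb.symm
  exfalso
  have heven := even_of_quadratic (Matrix.toLin' τ) (α := α) (β := β) hα (fun x hx => ?_) (fun w => ?_)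
  · rw [Module.finrank_fintype_fun_eq_card] at heven
    exact Nat.not_even_iff_odd.2 (hodd rfl) heven
  · have hne : a - x • b ≠ 0 := by
      intro h
      have := congrArg (fun v => θa ⬝ᵥ v) h
      simp [dotProduct_sub, dotProduct_smul, hθaa, hθab] at this
    refine heig (a - x • b) (-(x * α)) hne (by rw [dotProduct_sub, dotProduct_smul, ha, hbφ]; simp) ?_
    rw [Matrix.mulVec_sub, Matrix.mulVec_smul, ← hbdef, ← hAb, smul_sub, smul_add, smul_smul, smul_smul, smul_smul,
      show x * β = 1 - α * x ^ 2 by linear_combination hx, sub_smul, one_smul,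
      show -(x * α) * x = -(α * x ^ 2) by ring, neg_smul, neg_smul]
    abel
  · obtain ⟨v, hv, p, ⟨u', rfl⟩, hvw⟩ := Submodule.mem_sup.1 (hsup a ha0 ha
      (mem_kK.2 (by rw [ct_pl, hbφ, zero_smul] : ct φ (pl b w) = 0)))
    have hve : v = pl b w - pl a u' := eq_sub_of_add_eq hvw
    have h := hD v hv
    rw [hve, Matrix.mulVec_sub, kronecker_mulVec_pl, kronecker_mulVec_pl, ← hAb] at h
    have e1 := congrArg (ct θa) h
    have e2 := congrArg (ct θb) h
    simp only [map_sub, map_add, ct_pl, pl_add_left, pl_smul_left, map_smul, dotProduct_add, dotProduct_smul, hθaa,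
      hθab, hθba, hθbb, ← hbdef, one_smul, zero_smul, smul_zero, add_zero, zero_add, sub_zero, zero_sub] at e1 e2
    have hu : u' = -(α • (τ *ᵥ w)) := by rw [e1]; simp
    rw [hu, Matrix.mulVec_neg, Matrix.mulVec_smul, show θb ⬝ᵥ b = 1 from hθbb] at e2
    simp only [one_smul, sub_neg_eq_add] at e2
    simp only [Matrix.toLin'_apply]
    rw [sub_eq_zero, add_comm, e2]

end rigid

end CfsgLib.TensorWreathMax
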