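import Mathlib
import Cfsg.Prelude.Def_GeometricClasses
import Cfsg.Agent.Classical.SLGen
import Cfsg.Agent.Lib.GeomClasses.Basic
import Cfsg.Agent.Lib.Maximal.TensorPower
import Cfsg.Agent.Lib.TensorWreathMax.Rigid

/-!
Groups of operators on a tensor power containing all root elements of the factors: products of root
elements in several factors, and the right coefficients at a splitting.
-/

set_option autoImplicit false
set_option linter.unusedSectionVars false
set_option linter.unusedSimpArgs false

namespace CfsgLib.TensorWreathMax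

open Matrix
open scoped Kronecker
open CfsgLib.Maximal.TensorPower

attribute [-simp] Matrix.coe_units_inv

variable {F : Type*} [Field F] {m t : ℕ}

/-- The index set of a tensor power. -/
abbrev Idx (m t : ℕ) : Type := Fin t → Fin m

/-! ### Splitting off a factor -/

/-- The index set split at a factor. -/
def split (i : Fin (t + 1)) : Idx m (t + 1) ≃ Fin m × Idx m t := (Fin.insertNthEquiv (fun _ => Fin m) i).symm

theorem split_symm_apply (i : Fin (t + 1)) (p : Fin m × Idx m t) :
    (split i).symm p = i.insertNth p.1 p.2 := rfl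

/-- Matrices at a splitting. -/
abbrev rx (i : Fin (t + 1)) :
    Matrix (Idx m (t + 1)) (Idx m (t + 1)) F ≃ₐ[F] Matrix (Fin m × Idx m t) (Fin m × Idx m t) F :=
  Matrix.reindexAlgEquiv F F (split i)

theorem rx_pm (i : Fin (t + 1)) (as : Fin (t + 1) → Matrix (Fin m) (Fin m) F) :
    rx i (pm as) = as i ⊗ₖ pm (i.removeNth as) := by
  ext ⟨a, x⟩ ⟨b, y⟩
  simp [pm, Fin.prod_univ_succAbove _ i, split_symm_apply, Fin.removeNth]

theorem rx_slot_same (i : Fin (t + 1)) (X : Matrix (Fin m) (Fin m) F) : rx i (slot i X) = X ⊗ₖ 1 := by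
  rw [slot_apply, rx_pm, Function.update_self, Fin.removeNth_update,
    show i.removeNth (1 : Fin (t + 1) → Matrix (Fin m) (Fin m) F) = 1 from rfl, pm_one]

theorem rx_slot_succAbove (i : Fin (t + 1)) (j : Fin t) (X : Matrix (Fin m) (Fin m) F) :
    rx i (slot (i.succAbove j) X) = (1 : Matrix (Fin m) (Fin m) F) ⊗ₖ slot j X := by
  rw [slot_apply, rx_pm, Function.update_of_ne (Fin.ne_succAbove i j), Fin.removeNth_update_succAbove, slot_apply]
  rfl

/-- The group at a splitting. -/
def Ms (i : Fin (t + 1)) (M : Subgroup (GL (Idx m (t + 1)) F)) : Subgroup (GL (Fin m × Idx m t) F) :=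
  M.comap (Cfsg.Geo.glReindex (F := F) (split i).symm).toMonoidHom

theorem in_ms_rx {i : Fin (t + 1)} {M : Subgroup (GL (Idx m (t + 1)) F)}
    {X : Matrix (Idx m (t + 1)) (Idx m (t + 1)) F} : In (Ms i M) (rx i X) ↔ In M X := by
  constructor
  · rintro ⟨g, hg, hX⟩
    refine ⟨_, hg, ?_⟩
    show Matrix.reindexAlgEquiv F F (split i).symm (g : Matrix _ _ F) = X
    rw [hX]
    ext x y
    simp
  · rintro ⟨g, hg, rfl⟩
    refine ⟨Cfsg.Geo.glReindex (F := F) (split i) g, ?_, rfl⟩
    show Cfsg.Geo.glReindex (F := F) (split i).symm (Cfsg.Geo.glReindex (F := F) (split i) g) ∈ M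
    convert hg
    ext x y
    simp [Cfsg.Geo.glReindex]

/-! ### Permuting the factors -/

/-- The operator permuting the factors. -/
def permM (σ : Equiv.Perm (Fin t)) : Matrix (Idx m t) (Idx m t) F :=
  fun x y => if y = x ∘ σ.symm then 1 else 0

theorem permM_mulVec (σ : Equiv.Perm (Fin t)) (xs : Fin t → Fin m → F) :
    (permM σ : Matrix (Idx m t) (Idx m t) F) *ᵥ tp xs = tp fun i => xs (σ i) := by
  funext a
  simp only [Matrix.mulVec, dotProduct, permM, ite_mul, one_mul, zero_mul, Finset.sum_ite_eq', Finset.mem_univ,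
    if_true, tp, Function.comp_apply]
  rw [← Equiv.prod_comp σ]
  simp

theorem permM_mul_self {σ : Equiv.Perm (Fin t)} (hσ : σ * σ = 1) :
    (permM σ : Matrix (Idx m t) (Idx m t) F) * permM σ = 1 :=
  ext_tp fun xs => by
    rw [← Matrix.mulVec_mulVec, permM_mulVec, permM_mulVec, Matrix.one_mulVec]
    congr 1
    funext i
    show xs ((σ * σ) i) = xs i
    rw [hσ]; rfl

theorem permM_mul_pm (σ : Equiv.Perm (Fin t)) (as : Fin t → Matrix (Fin m) (Fin m) F) :
    permM σ * pm as = pm (fun i => as (σ i)) * permM σ :=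
  ext_tp fun xs => by
    rw [← Matrix.mulVec_mulVec, ← Matrix.mulVec_mulVec, pm_mulVec, permM_mulVec, permM_mulVec, pm_mulVec]

theorem permM_conj_pm {σ : Equiv.Perm (Fin t)} (hσ : σ * σ = 1) (as : Fin t → Matrix (Fin m) (Fin m) F) :
    permM σ * pm as * permM σ = pm (fun i => as (σ i)) := by
  rw [permM_mul_pm, mul_assoc, permM_mul_self hσ, mul_one]

/-! ### The hypothesis -/

/-- All root elements of the factors, and the permutations of at least three factors up to scalars. -/
structure Full (M : Subgroup (GL (Idx m t) F)) : Prop where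
  root : ∀ i a φ, φ ⬝ᵥ a = 0 → In M (1 + slot i (vecMulVec a φ))
  perm : 3 ≤ t → ∀ j k : Fin t, j ≠ k → ∃ c : F, c ≠ 0 ∧ In M (c • permM (Equiv.swap j k))

theorem Full.hasRoots {M : Subgroup (GL (Idx m (t + 1)) F)} (hF : Full M) (i : Fin (t + 1)) :
    HasRoots (Ms i M) := fun a φ h => by
  have h1 := in_ms_rx (i := i).2 (hF.root i a φ h)
  rwa [map_add, map_one, rx_slot_same] at h1

/-- A product over a set of factors. -/
def pS (S : Finset (Fin t)) (X : Fin t → Matrix (Fin m) (Fin m) F) : Matrix (Idx m t) (Idx m t) F :=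
  pm fun j => if j ∈ S then X j else 1

theorem pS_congr {S : Finset (Fin t)} {X Y : Fin t → Matrix (Fin m) (Fin m) F} (h : ∀ j ∈ S, X j = Y j) :
    pS S X = pS S Y := by
  unfold pS
  congr 1
  funext j
  split_ifs with hj
  · exact h j hj
  · rfl

/-- All products of root nilpotents over a set of factors. -/
def RootsOn (M : Subgroup (GL (Idx m t) F)) (S : Finset (Fin t)) : Prop :=
  ∀ a φ : Fin t → Fin m → F, (∀ j ∈ S, φ j ⬝ᵥ a j = 0) → In M (1 + pS S fun j => vecMulVec (a j) (φ j))

theorem Full.change_one (hm : 3 ≤ m) {M : Subgroup (GL (Idx m t) F)} (hF : Full M)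
    {f : Fin t → Matrix (Fin m) (Fin m) F} {i : Fin t} {a φ : Fin m → F} (ha : a ≠ 0) (hφ : φ ≠ 0)
    (haφ : φ ⬝ᵥ a = 0) (hfi : f i = vecMulVec a φ) (h : In M (1 + pm f)) {b ψ : Fin m → F} (hbψ : ψ ⬝ᵥ b = 0) :
    In M (1 + pm (Function.update f i (vecMulVec b ψ))) := by
  cases t with
  | zero => exact i.elim0
  | succ t =>
    have h1 := in_ms_rx (i := i).2 h
    rw [map_add, map_one, rx_pm, hfi] at h1
    have h2 := good_of_one hm (hF.hasRoots i) ha hφ haφ h1 b ψ hbψ
    rw [← in_ms_rx (i := i), map_add, map_one, rx_pm, Function.update_self, Fin.removeNth_update]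
    exact h2

/-- One product of root nilpotents gives all of them. -/
theorem Full.rootsOn_of_one (hm : 3 ≤ m) {M : Subgroup (GL (Idx m t) F)} (hF : Full M) {S : Finset (Fin t)}
    (a φ : Fin t → Fin m → F) (hne : ∀ j ∈ S, a j ≠ 0 ∧ φ j ≠ 0 ∧ φ j ⬝ᵥ a j = 0)
    (h : In M (1 + pS S fun j => vecMulVec (a j) (φ j))) : RootsOn M S := by
  classical
  suffices hU : ∀ U : Finset (Fin t), ∀ a' φ' : Fin t → Fin m → F,
      (∀ j ∈ S, j ∉ U → a' j = a j ∧ φ' j = φ j) → (∀ j ∈ S, φ' j ⬝ᵥ a' j = 0) →
      In M (1 + pS S fun j => vecMulVec (a' j) (φ' j)) by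
    intro a' φ' h'
    exact hU Finset.univ a' φ' (fun j _ hj => absurd (Finset.mem_univ j) hj) h'
  intro U
  induction U using Finset.induction with
  | empty =>
    intro a' φ' he _
    rwa [pS_congr fun j hj => by rw [(he j hj (Finset.notMem_empty j)).1, (he j hj (Finset.notMem_empty j)).2]]
  | @insert k U _ ih =>
    intro a' φ' he h'
    by_cases hk : k ∈ S
    swap
    · refine ih a' φ' (fun j hj hjU => he j hj ?_) h'
      simp only [Finset.mem_insert, not_or]
      exact ⟨fun hjk => hk (hjk ▸ hj), hjU⟩
    have h1 := ih (Function.update a' k (a k)) (Function.update φ' k (φ k))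
      (fun j hj hjU => by
        rcases eq_or_ne j k with rfl | hjk
        · simp
        · simpa [hjk] using he j hj (by simp [hjk, hjU]))
      (fun j hj => by
        rcases eq_or_ne j k with rfl | hjk
        · simpa using (hne j hj).2.2
        · simpa [hjk] using h' j hj)
    unfold pS at h1
    obtain ⟨hak, hφk, haφk⟩ := hne k hk
    have h2 := hF.change_one hm (i := k) hak hφk haφk (by simp [hk]) h1 (h' k hk)
    convert h2 using 2
    unfold pS
    congr 1
    funext j
    rcases eq_or_ne j k with rfl | hjk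
    · simp [hk]
    · simp [hjk]

theorem exists_triple (hm : 3 ≤ m) : ∃ u v w : Fin m, u ≠ v ∧ u ≠ w ∧ v ≠ w :=
  ⟨⟨0, by omega⟩, ⟨1, by omega⟩, ⟨2, by omega⟩, by simp, by simp, by simp⟩

theorem vecMulVec_single_mul (a b c d : Fin m) :
    vecMulVec (Pi.single a (1 : F)) (Pi.single b 1) * vecMulVec (Pi.single c (1 : F)) (Pi.single d 1) =
      if b = c then vecMulVec (Pi.single a (1 : F)) (Pi.single d 1) else 0 := by
  rw [vecMulVec_mul_vecMulVec]
  split_ifs with h <;> simp [single_dotProduct, h, Ne.symm]

theorem pm_eq_zero_of {as : Fin t → Matrix (Fin m) (Fin m) F} {j : Fin t} (h : as j = 0) : pm as = 0 := by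
  ext x y
  simp only [pm, Matrix.zero_apply]
  exact Finset.prod_eq_zero (Finset.mem_univ j) (by simp [h])

theorem pS_mul (S : Finset (Fin t)) (X Y : Fin t → Matrix (Fin m) (Fin m) F) :
    pS S X * pS S Y = pS S fun j => X j * Y j := by
  rw [pS, pS, pm_mul, pS]
  congr 1
  funext j
  split_ifs <;> simp

theorem pS_eq_zero {S : Finset (Fin t)} {X : Fin t → Matrix (Fin m) (Fin m) F} {j : Fin t} (hj : j ∈ S)
    (h : X j = 0) : pS S X = 0 :=
  pm_eq_zero_of (j := j) (by simp [hj, h])

/-- Two meeting sets of factors give their union. -/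
theorem Full.rootsOn_union (hm : 3 ≤ m) {M : Subgroup (GL (Idx m t) F)} (hF : Full M) {S S' : Finset (Fin t)}
    (hSS' : (S ∩ S').Nonempty) (hS : RootsOn M S) (hS' : RootsOn M S') : RootsOn M (S ∪ S') := by
  classical
  obtain ⟨u, v, w, huv, huw, hvw⟩ := exists_triple hm
  obtain ⟨k, hk⟩ := hSS'
  rw [Finset.mem_inter] at hk
  have hdot : ∀ a b : Fin m, a ≠ b → (Pi.single b (1 : F) : Fin m → F) ⬝ᵥ Pi.single a 1 = 0 := fun a b h => by
    simp [single_dotProduct, h]
  have h0 : ∀ a b : Fin m, a ≠ b →
      vecMulVec (Pi.single a (1 : F)) (Pi.single b 1) * vecMulVec (Pi.single a (1 : F)) (Pi.single b 1) = 0 :=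
    fun a b h => by rw [vecMulVec_single_mul, if_neg h.symm]
  have hA := hS (fun _ => Pi.single u 1) (fun _ => Pi.single v 1) fun _ _ => hdot u v huv
  have hB := hS' (fun _ => Pi.single v 1) (fun _ => Pi.single w 1) fun _ _ => hdot v w hvw
  have hAA : pS S (fun _ => vecMulVec (Pi.single u (1 : F)) (Pi.single v 1)) *
      pS S (fun _ => vecMulVec (Pi.single u (1 : F)) (Pi.single v 1)) = 0 := by
    rw [pS_mul]; exact pS_eq_zero hk.1 (h0 u v huv)
  have hBB : pS S' (fun _ => vecMulVec (Pi.single v (1 : F)) (Pi.single w 1)) *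
      pS S' (fun _ => vecMulVec (Pi.single v (1 : F)) (Pi.single w 1)) = 0 := by
    rw [pS_mul]; exact pS_eq_zero hk.2 (h0 v w hvw)
  have hBA : pS S' (fun _ => vecMulVec (Pi.single v (1 : F)) (Pi.single w 1)) *
      pS S (fun _ => vecMulVec (Pi.single u (1 : F)) (Pi.single v 1)) = 0 := by
    rw [pS, pS, pm_mul]
    exact pm_eq_zero_of (j := k) (by simp [hk.1, hk.2, vecMulVec_single_mul, huw.symm])
  have h := In.comm hAA hBB hBA hA hB
  let a : Fin t → Fin m → F := fun j => if j ∈ S then Pi.single u 1 else Pi.single v 1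
  let φ : Fin t → Fin m → F := fun j => if j ∈ S' then Pi.single w 1 else Pi.single v 1
  refine hF.rootsOn_of_one hm a φ (fun j hj => ?_) ?_
  · simp only [Finset.mem_union] at hj
    simp only [a, φ]
    by_cases h1 : j ∈ S <;> by_cases h2 : j ∈ S' <;>
      simp [h1, h2, hdot u w huw, hdot u v huv, hdot v w hvw, Pi.single_eq_zero_iff] at hj ⊢
  · convert h using 2
    rw [pS, pS, pS, pm_mul]
    congr 1
    funext j
    simp only [a, φ, Finset.mem_union]
    by_cases h1 : j ∈ S <;> by_cases h2 : j ∈ S' <;> simp [h1, h2, vecMulVec_single_mul]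

theorem Full.rootsOn_swap {M : Subgroup (GL (Idx m t) F)} (hF : Full M) (ht : 3 ≤ t) {S : Finset (Fin t)}
    (hS : RootsOn M S) (j k : Fin t) : RootsOn M (S.image (Equiv.swap j k)) := by
  classical
  rcases eq_or_ne j k with rfl | hjk
  · simpa using hS
  intro a φ h
  obtain ⟨c, hc, hp⟩ := hF.perm ht j k hjk
  have hσ : Equiv.swap j k * Equiv.swap j k = 1 := Equiv.swap_mul_self _ _
  have h1 := hS (fun l => a (Equiv.swap j k l)) (fun l => φ (Equiv.swap j k l))
    fun l hl => h _ (Finset.mem_image_of_mem _ hl)
  have hpi : In M (c⁻¹ • permM (Equiv.swap j k)) :=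
    hp.inv (by rw [smul_mul_smul_comm, permM_mul_self hσ, mul_inv_cancel₀ hc, one_smul])
  have h2 := (hp.mul h1).mul hpi
  rw [mul_add, mul_one, add_mul, smul_mul_smul_comm, permM_mul_self hσ, mul_inv_cancel₀ hc, one_smul,
    smul_mul_assoc, smul_mul_smul_comm, mul_inv_cancel₀ hc, one_smul, pS, permM_conj_pm hσ] at h2
  convert h2 using 2
  rw [pS]
  congr 1
  funext l
  have e : Equiv.swap j k l ∈ S ↔ l ∈ S.image (Equiv.swap j k) := by
    simp only [Finset.mem_image]
    exact ⟨fun hl => ⟨_, hl, by simp⟩, fun ⟨x, hx, hxl⟩ => by rw [← hxl]; simpa using hx⟩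
  simp only [e, Equiv.swap_apply_self]

theorem Full.rootsOn_univ (hm : 3 ≤ m) {M : Subgroup (GL (Idx m t) F)} (hF : Full M) :
    ∀ (S : Finset (Fin t)), (2 ≤ S.card ∨ S = Finset.univ) → RootsOn M S → RootsOn M Finset.univ := by
  classical
  suffices h : ∀ d, ∀ S : Finset (Fin t), t - S.card = d → (2 ≤ S.card ∨ S = Finset.univ) → RootsOn M S →
      RootsOn M Finset.univ from fun S => h _ S rfl
  intro d
  induction d using Nat.strong_induction_on with
  | _ d ih =>
    intro S hd h2 hS
    by_cases hu : S = Finset.univ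
    · rwa [← hu]
    have h2' : 2 ≤ S.card := h2.resolve_right hu
    obtain ⟨k, hk⟩ : ∃ k, k ∉ S := by
      by_contra h; push Not at h; exact hu (Finset.eq_univ_of_forall h)
    obtain ⟨j, hj, l, hl, hjl⟩ := Finset.one_lt_card.1 h2'
    have hcard : (insert k S).card = S.card + 1 := Finset.card_insert_of_notMem hk
    have hle : (insert k S).card ≤ t := by simpa using Finset.card_le_univ (insert k S)
    have hS' := hF.rootsOn_swap (by omega) hS j k
    have he : S ∪ S.image (Equiv.swap j k) = insert k S := by
      ext x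
      simp only [Finset.mem_union, Finset.mem_image, Finset.mem_insert]
      constructor
      · rintro (hx | ⟨y, hy, rfl⟩)
        · exact Or.inr hx
        · rcases eq_or_ne y j with rfl | hyj
          · exact Or.inl (by simp)
          · exact Or.inr (by rwa [Equiv.swap_apply_of_ne_of_ne hyj (fun h => hk (by rw [← h]; exact hy))])
      · rintro (rfl | hx)
        · exact Or.inr ⟨j, hj, by simp⟩
        · exact Or.inl hx
    have hne : (S ∩ S.image (Equiv.swap j k)).Nonempty :=
      ⟨l, Finset.mem_inter.2 ⟨hl, Finset.mem_image.2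
        ⟨l, hl, Equiv.swap_apply_of_ne_of_ne hjl.symm (fun h => hk (h ▸ hl : k ∈ S))⟩⟩⟩
    have h3 := hF.rootsOn_union hm hne hS hS'
    rw [he] at h3
    exact ih _ (by omega) (insert k S) rfl (Or.inl (by omega)) h3

/-- A subgroup containing the elementary matrices contains the special linear group. -/
theorem specialLinear_le_of_single {ι : Type} [Fintype ι] [DecidableEq ι] {M : Subgroup (GL ι F)}
    (h : ∀ x y : ι, x ≠ y → ∀ c : F, In M (1 + Matrix.single x y c)) : Cfsg.Geo.specialLinear ι F ≤ M := by
  intro g hg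
  have hgen : ∀ (i j : ι) (hij : i ≠ j) (c : F),
      SpecialLinearGroup.transvection hij c ∈ M.comap (SpecialLinearGroup.toGL : SpecialLinearGroup ι F →* GL ι F) := by
    intro i j hij c
    obtain ⟨u, hu, hue⟩ := h i j hij c
    rw [Subgroup.mem_comap]
    convert hu using 1
    apply Units.ext
    rw [hue]
    simp [SpecialLinearGroup.transvection_coe]
  have htop := Cfsg.Agent.Classical.sl_subgroup_eq_top_of_transvection_mem _ hgen
  rw [GeomClasses.mem_specialLinear] at hg
  have e : g = SpecialLinearGroup.toGL (⟨g, hg⟩ : SpecialLinearGroup ι F) := Units.ext rfl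
  rw [e]
  exact (Subgroup.eq_top_iff' _).1 htop _

set_option maxHeartbeats 1000000 in
/-- Products of root nilpotents over all the factors give the special linear group. -/
theorem RootsOn.specialLinear_le (hm : 3 ≤ m) (ht : 0 < t) {M : Subgroup (GL (Idx m t) F)}
    (h : RootsOn M Finset.univ) : Cfsg.Geo.specialLinear (Idx m t) F ≤ M := by
  classical
  have hfar : ∀ x y : Idx m t, (∀ i, x i ≠ y i) → ∀ c : F, In M (1 + Matrix.single x y c) := by
    intro x y hxy c
    let j₀ : Fin t := ⟨0, ht⟩
    have h1 := h (fun j => Pi.single (x j) (if j = j₀ then c else 1)) (fun j => Pi.single (y j) 1)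
      (fun j _ => by simp [single_dotProduct, hxy j])
    convert h1 using 2
    ext a b
    simp only [pS, Finset.mem_univ, if_true, pm, Matrix.vecMulVec_apply, Finset.prod_mul_distrib]
    rw [show (∏ i, (Pi.single (x i) (if i = j₀ then c else 1) : Fin m → F) (a i)) =
        if a = x then c else 0 by
      rcases eq_or_ne a x with rfl | ha
      · simp [Finset.prod_ite_eq']
      · obtain ⟨i, hi⟩ := Function.ne_iff.1 ha
        rw [if_neg ha, Finset.prod_eq_zero (Finset.mem_univ i) (Pi.single_eq_of_ne hi _)],
      show (∏ i, (Pi.single (y i) (1 : F) : Fin m → F) (b i)) = if b = y then 1 else 0 by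
      rcases eq_or_ne b y with rfl | hb
      · simp
      · obtain ⟨i, hi⟩ := Function.ne_iff.1 hb
        rw [if_neg hb, Finset.prod_eq_zero (Finset.mem_univ i) (Pi.single_eq_of_ne hi _)]]
    simp only [Matrix.single, Matrix.of_apply]
    by_cases h1 : a = x <;> by_cases h2 : b = y <;> simp [h1, h2, Ne.symm]
  refine specialLinear_le_of_single fun x y hxy c => ?_
  have hz : ∀ i, ∃ z : Fin m, z ≠ x i ∧ z ≠ y i := fun i => by
    by_contra hcon
    push Not at hcon
    have : (Finset.univ : Finset (Fin m)) ⊆ {x i, y i} := fun s _ => by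
      by_cases h1 : s = x i
      · simp [h1]
      · simp [hcon s h1]
    have := (Finset.card_le_card this).trans Finset.card_le_two
    simp at this
    omega
  choose z hzx hzy using hz
  have hne : ∀ x' z' : Idx m t, (∀ i, z' i ≠ x' i) → x' ≠ z' := fun x' z' hh e =>
    hh ⟨0, ht⟩ (by rw [e])
  have := In.comm (M := M) (A := Matrix.single x z c) (B := Matrix.single z y 1)
    (Matrix.single_mul_single_of_ne c x z x (hne x z hzx).symm c)
    (Matrix.single_mul_single_of_ne 1 z y z (hne y z hzy) 1)
    (Matrix.single_mul_single_of_ne 1 z y x hxy.symm c)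
    (hfar x z (fun i => (hzx i).symm) c) (hfar z y hzy 1)
  rwa [Matrix.single_mul_single_same, mul_one] at this

/-- Products of root nilpotents over two factors give the special linear group. -/
theorem Full.not_rootsOn (hm : 3 ≤ m) {M : Subgroup (GL (Idx m t) F)} (hF : Full M)
    (hSL : ¬ Cfsg.Geo.specialLinear (Idx m t) F ≤ M) (ht : 0 < t) {S : Finset (Fin t)} (hS : 2 ≤ S.card) :
    ¬ RootsOn M S :=
  fun h => hSL ((hF.rootsOn_univ hm S (Or.inl hS) h).specialLinear_le hm ht)

/-! ### The coefficients at a splitting -/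

theorem single_eq_vecMulVec (k l : Fin m) :
    Matrix.single k l (1 : F) = vecMulVec (Pi.single k 1) (Pi.single l 1) :=
  Matrix.single_eq_single_vecMulVec_single k l

theorem eq_smul_one_of_commute_all {C : Matrix (Idx m t) (Idx m t) F} (hm : 3 ≤ m)
    (h : ∀ X : Matrix (Idx m t) (Idx m t) F, C * X = X * C) : ∃ c : F, C = c • 1 := by
  have x₀ : Idx m t := fun _ => ⟨0, by omega⟩
  refine ⟨C x₀ x₀, Matrix.ext fun a b => ?_⟩
  have h1 := congrFun (congrFun (h (Matrix.single b x₀ 1)) a) x₀
  rw [Matrix.mul_single_apply_same, mul_one] at h1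
  rw [h1, Matrix.smul_apply, Matrix.one_apply]
  by_cases hab : a = b
  · subst hab; simp
  · rw [Matrix.single_mul_apply_of_ne 1 b x₀ a x₀ hab, if_neg hab, smul_zero]

theorem slot_comm_pS {S : Finset (Fin t)} {j : Fin t} (hj : j ∉ S) (X : Fin t → Matrix (Fin m) (Fin m) F)
    (Y : Matrix (Fin m) (Fin m) F) : slot j Y * pS S X = pS S X * slot j Y := by
  rw [slot_apply, pS, pm_mul, pm_mul]
  congr 1
  funext l
  rcases eq_or_ne l j with rfl | hl
  · simp [hj]
  · simp [hl]

theorem pS_insert {S : Finset (Fin t)} {j : Fin t} (hj : j ∉ S) (X : Fin t → Matrix (Fin m) (Fin m) F)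
    (Y : Matrix (Fin m) (Fin m) F) : pS S X * slot j Y = pS (insert j S) (Function.update X j Y) := by
  rw [slot_apply, pS, pm_mul, pS]
  congr 1
  funext l
  rcases eq_or_ne l j with rfl | hl
  · simp [hj]
  · simp [hl]

set_option maxHeartbeats 1600000 in
/-- Only scalars are right coefficients, unless the special linear group is contained. -/
theorem Full.onlyScalar (hm : 3 ≤ m) {M : Subgroup (GL (Idx m (t + 1)) F)} (hF : Full M)
    (hSL : ¬ Cfsg.Geo.specialLinear (Idx m (t + 1)) F ≤ M) (i : Fin (t + 1)) : OnlyScalar (Ms i M) := by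
  classical
  have hR := hF.hasRoots i
  obtain ⟨u, v, w, huv, huw, hvw⟩ := exists_triple hm
  have key : ∀ d, ∀ S : Finset (Fin t), t - S.card = d → ∀ (K L : Fin t → Fin m) (C : Matrix (Idx m t) (Idx m t) F),
      (∀ j ∈ S, K j ≠ L j) → Good (Ms i M) (pS S (fun j => Matrix.single (K j) (L j) 1) * C) →
      (∀ j ∈ S, ∀ X, C * slot j X = slot j X * C) → C ≠ 0 → (S.Nonempty ∨ ∀ c : F, C ≠ c • 1) → False := by
    intro d
    induction d using Nat.strong_induction_on with
    | _ d ih =>
      intro S hd K L C hKL hG hC hC0 hS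
      by_cases hsc : ∃ c : F, C = c • 1
      · obtain ⟨c, rfl⟩ := hsc
        obtain ⟨j, hj⟩ : S.Nonempty := hS.resolve_right fun h => h c rfl
        have hc : c ≠ 0 := fun h => hC0 (by rw [h, zero_smul])
        rw [mul_smul_comm, mul_one] at hG
        have hG' := hG.smul c⁻¹
        rw [smul_smul, inv_mul_cancel₀ hc, one_smul] at hG'
        have h1 := hG' (Pi.single u 1) (Pi.single v 1) (by simp [single_dotProduct, huv])
        let S' : Finset (Fin (t + 1)) := insert i (S.map i.succAboveEmb)
        refine hF.not_rootsOn hm hSL t.succ_pos (S := S') ?_ (hF.rootsOn_of_one hm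
          (i.insertNth (Pi.single u 1) fun j => Pi.single (K j) 1)
          (i.insertNth (Pi.single v 1) fun j => Pi.single (L j) 1) (fun l hl => ?_) ?_)
        · rw [Finset.card_insert_of_notMem (by simp [Fin.succAbove_ne]), Finset.card_map]
          have : 0 < S.card := Finset.card_pos.2 ⟨j, hj⟩
          omega
        · rcases Fin.eq_self_or_eq_succAbove i l with rfl | ⟨l, rfl⟩
          · simp [single_dotProduct, huv, Pi.single_eq_zero_iff]
          · have hlS : l ∈ S := by simpa [S', Fin.succAbove_ne] using hl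
            simp [single_dotProduct, (hKL l hlS), Pi.single_eq_zero_iff]
        · rw [← in_ms_rx (i := i), map_add, map_one, pS, rx_pm]
          convert h1 using 2
          rw [nm]
          congr 1
          · simp [S']
          · rw [pS]
            congr 1
            funext l
            simp only [Fin.removeNth, S', Finset.mem_insert, Fin.succAbove_ne, false_or, Finset.mem_map,
              Fin.coe_succAboveEmb, Fin.succAbove_right_inj, exists_eq_right, Fin.insertNth_apply_succAbove,
              single_eq_vecMulVec]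
      push Not at hsc
      obtain ⟨j, a₀, b₀, hab⟩ : ∃ j a b, C * slot j (Matrix.single a b 1) ≠ slot j (Matrix.single a b 1) * C := by
        by_contra h
        push Not at h
        obtain ⟨c, hc⟩ := eq_smul_one_of_commute_all hm (commute_all (Z := C) fun j X => by
          induction X using Matrix.induction_on' with
          | h_zero => simp
          | h_add p q hp hq => rw [map_add, mul_add, add_mul, hp, hq]
          | h_std_basis a b c =>
            rw [show Matrix.single a b c = c • Matrix.single a b (1 : F) by simp [Matrix.smul_single], map_smul,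
              mul_smul_comm, smul_mul_assoc, h j a b])
        exact hsc c hc
      have hjS : j ∉ S := fun hj => hab (hC j hj _)
      let E : Fin m → Fin m → Matrix (Idx m t) (Idx m t) F := fun a b => slot j (Matrix.single a b 1)
      have hE : ∀ a b c d, E a b * E c d = if b = c then E a d else 0 := fun a b c d => by
        show slot j _ * slot j _ = _
        rw [slot_mul]
        split_ifs with h
        · subst h; rw [Matrix.single_mul_single_same, mul_one]
        · rw [Matrix.single_mul_single_of_ne (h := h), map_zero]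
      have hsum : ∑ a, E a a = 1 := by
        rw [← map_sum, show (∑ a, Matrix.single a a (1 : F)) = 1 by
          ext a b
          rw [Matrix.sum_apply, Finset.sum_eq_single a (fun c _ hc => by simp [Matrix.single, hc]) (by simp),
            Matrix.one_apply]
          simp [Matrix.single], slot_one]
      let B := pS S fun j => Matrix.single (K j) (L j) (1 : F)
      let P : Matrix (Idx m t) (Idx m t) F → Prop :=
        fun X => Good (Ms i M) (B * X) ∧ ∀ l ∈ S, ∀ Y, X * slot l Y = slot l Y * X
      have hsub : ∀ {X Y}, P X → P Y → P (X - Y) := fun {X Y} hX hY =>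
        ⟨by rw [mul_sub]; exact hX.1.sub hY.1,
          fun l hl Z => by rw [sub_mul, mul_sub, hX.2 l hl, hY.2 l hl]⟩
      have hconj : ∀ {k l X}, k ≠ l → P X → P ((1 + E k l) * X * (1 - E k l)) := by
        intro k l X hkl hX
        refine ⟨?_, fun p hp Y => ?_⟩
        · have hEE : E k l * E k l = 0 := by rw [hE, if_neg hkl.symm]
          have hτ : (1 + E k l) * (1 - E k l) = 1 := by
            rw [mul_sub, mul_one, add_mul, one_mul, hEE]; abel
          have hin : In (Ms i M) ((1 : Matrix (Fin m) (Fin m) F) ⊗ₖ (1 + E k l)) := by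
            have h1 := in_ms_rx (i := i).2 (hF.root (i.succAbove j) (Pi.single k 1) (Pi.single l 1)
              (by simp [single_dotProduct, hkl]))
            rwa [map_add, map_one, rx_slot_succAbove, ← single_eq_vecMulVec, ← one_kronecker_one,
              ← kronecker_add] at h1
          have h2 := hX.1.conj hτ hin
          have hBc : (1 + E k l) * B = B * (1 + E k l) := by
            rw [add_mul, mul_add, one_mul, mul_one, slot_comm_pS hjS]
          rwa [← mul_assoc (1 + E k l), hBc, mul_assoc B, mul_assoc B] at h2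
        · have hpj : p ≠ j := fun h => hjS (h ▸ hp)
          have hc := slot_comm hpj Y (Matrix.single k l (1 : F))
          have e1 : (1 + E k l) * slot p Y = slot p Y * (1 + E k l) := by
            rw [add_mul, mul_add, one_mul, mul_one, hc]
          have e2 : (1 - E k l) * slot p Y = slot p Y * (1 - E k l) := by
            rw [sub_mul, mul_sub, one_mul, mul_one, hc]
          rw [mul_assoc _ _ (slot p Y), e2, ← mul_assoc, mul_assoc (1 + E k l), hX.2 p hp, ← mul_assoc, e1,
            mul_assoc (slot p Y), mul_assoc (slot p Y)]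
      obtain ⟨k, l, X, hkl, hX, hX0⟩ := exists_sandwich_ne_zero (E := E) (P := P) hm hE hsum hsub hconj
        (Y := C) ⟨hG, hC⟩ fun h => hab (h a₀ b₀).symm
      have hX' : P (E k l * X * E k l) := sandwich (E := E) (P := P) hm hE hsub hconj hkl hX
      let C' := ∑ r, E r l * X * E k r
      have hklC : E k l * C' = E k l * X * E k l := by
        rw [Finset.mul_sum, Finset.sum_eq_single l]
        · rw [← mul_assoc, ← mul_assoc, hE, if_pos rfl]
        · intro r _ hr
          rw [← mul_assoc, ← mul_assoc, hE, if_neg hr.symm, zero_mul, zero_mul]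
        · simp
      have hC'j : ∀ a b, C' * E a b = E a b * C' := by
        intro a b
        rw [Finset.sum_mul, Finset.mul_sum, Finset.sum_eq_single a, Finset.sum_eq_single b]
        · rw [← mul_assoc, ← mul_assoc, hE, if_pos rfl, mul_assoc, hE, if_pos rfl]
        · intro r _ hr
          rw [← mul_assoc, ← mul_assoc, hE, if_neg hr.symm, zero_mul, zero_mul]
        · simp
        · intro r _ hr
          rw [mul_assoc, hE, if_neg hr, mul_zero]
        · simp
      have hinsert : ∀ l' ∈ insert j S, ∀ Y, C' * slot l' Y = slot l' Y * C' := by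
        intro l' hl' Y
        rcases Finset.mem_insert.1 hl' with rfl | hl'
        · induction Y using Matrix.induction_on' with
          | h_zero => simp
          | h_add p q hp hq => rw [map_add, mul_add, add_mul, hp, hq]
          | h_std_basis a b c =>
            rw [show Matrix.single a b c = c • Matrix.single a b (1 : F) by simp [Matrix.smul_single], map_smul,
              mul_smul_comm, smul_mul_assoc, hC'j a b]
        · have hlj : l' ≠ j := fun h => hjS (h ▸ hl')
          rw [Finset.sum_mul, Finset.mul_sum]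
          refine Finset.sum_congr rfl fun r _ => ?_
          rw [mul_assoc, ← slot_comm hlj, ← mul_assoc, mul_assoc (E r l), hX.2 l' hl', ← mul_assoc,
            ← slot_comm hlj, mul_assoc (slot l' Y), mul_assoc (slot l' Y)]
      have hlt : t - (insert j S).card < d := by
        have := Finset.card_le_univ (insert j S)
        rw [Finset.card_insert_of_notMem hjS] at this ⊢
        simp at this
        omega
      refine ih _ hlt (insert j S) rfl (Function.update K j k) (Function.update L j l) C' (fun p hp => ?_) ?_ hinsert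
        (fun h => hX0 (by rw [← hklC, h, mul_zero])) (Or.inl ⟨j, Finset.mem_insert_self j S⟩)
      · rcases Finset.mem_insert.1 hp with rfl | hp
        · simpa using hkl
        · have hpj : p ≠ j := fun h => hjS (h ▸ hp)
          simpa [hpj] using hKL p hp
      · convert hX'.1 using 1
        rw [← hklC, ← mul_assoc]
        congr 1
        rw [pS_insert hjS]
        refine pS_congr fun p _ => ?_
        rcases eq_or_ne p j with rfl | hpj
        · simp
        · simp [hpj]
  intro Y hY
  by_contra hcon
  push Not at hcon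
  refine key _ ∅ rfl (fun _ => u) (fun _ => v) Y (by simp) ?_ (by simp) (fun h => hcon 0 (by simpa using h))
    (Or.inr hcon)
  rwa [show pS (∅ : Finset (Fin t)) (fun _ => Matrix.single u v (1 : F)) = 1 by
    simp only [pS, Finset.notMem_empty, if_false]; exact pm_one, one_mul]

end CfsgLib.TensorWreathMax
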