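import Mathlib
import Cfsg.Agent.Lib.TensorWreathMax.Power

/-!
Monomial operators of a tensor power whose difference from the identity has square zero and rank one factor.
-/

set_option autoImplicit false
set_option linter.unusedSectionVars false
set_option linter.unusedSimpArgs false

namespace CfsgLib.TensorWreathMax

open Matrix
open scoped Kronecker
open CfsgLib.Maximal.TensorPower

attribute [-simp] Matrix.coe_units_inv

variable {F : Type*} [Field F] {m t : ℕ}

/-- The operator is given by a permutation and factorwise maps. -/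
def Mon (z : Matrix (Idx m t) (Idx m t) F) (σ : Equiv.Perm (Fin t)) (as : Fin t → GL (Fin m) F) : Prop :=
  ∀ xs, z *ᵥ tp xs = tp fun i => (as i : Matrix (Fin m) (Fin m) F) *ᵥ xs (σ i)

theorem Mon.one : Mon (1 : Matrix (Idx m t) (Idx m t) F) 1 1 := fun xs => by simp

theorem Mon.mul {z w : Matrix (Idx m t) (Idx m t) F} {σ τ : Equiv.Perm (Fin t)} {as bs : Fin t → GL (Fin m) F}
    (hz : Mon z σ as) (hw : Mon w τ bs) : Mon (z * w) (τ * σ) fun i => as i * bs (σ i) := fun xs => by
  rw [← Matrix.mulVec_mulVec, hw, hz]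
  simp [Matrix.mulVec_mulVec]

theorem Mon.pow {z : Matrix (Idx m t) (Idx m t) F} {σ : Equiv.Perm (Fin t)} {as : Fin t → GL (Fin m) F}
    (hz : Mon z σ as) : ∀ k : ℕ, ∃ bs, Mon (z ^ k) (σ ^ k) bs
  | 0 => ⟨_, by rw [pow_zero, pow_zero]; exact Mon.one⟩
  | k + 1 => by
    obtain ⟨bs, h⟩ := Mon.pow hz k
    exact ⟨_, by rw [pow_succ, pow_succ']; exact h.mul hz⟩

theorem dot_tp (θ ys : Fin t → Fin m → F) : tp θ ⬝ᵥ tp ys = ∏ i, θ i ⬝ᵥ ys i := by
  simp only [dotProduct, tp, ← Finset.prod_mul_distrib]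
  rw [Fintype.prod_sum]

theorem mem_standard {g : GL (Idx m t) F} (h : IsMonomial g) : g ∈ Cfsg.Geo.tensorWreathStandard m t F := by
  obtain ⟨σ, as, h⟩ := h
  let p : GL (Idx m t) F := ⟨permM σ, permM σ⁻¹,
    ext_tp fun xs => by rw [← Matrix.mulVec_mulVec, permM_mulVec, permM_mulVec, Matrix.one_mulVec]; simp,
    ext_tp fun xs => by rw [← Matrix.mulVec_mulVec, permM_mulVec, permM_mulVec, Matrix.one_mulVec]; simp⟩
  let C : GL (Idx m t) F := ⟨pm fun j => (as j : Matrix (Fin m) (Fin m) F),
    pm fun j => (((as j)⁻¹ : GL (Fin m) F) : Matrix (Fin m) (Fin m) F),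
    by simp only [pm_mul, ← Units.val_mul, mul_inv_cancel, Units.val_one]; exact pm_one,
    by simp only [pm_mul, ← Units.val_mul, inv_mul_cancel, Units.val_one]; exact pm_one⟩
  have e : g = C * p := Units.ext (ext_tp fun xs => by
    rw [h, Units.val_mul, ← Matrix.mulVec_mulVec]
    show _ = pm _ *ᵥ (permM σ *ᵥ tp xs)
    rw [permM_mulVec, pm_mulVec])
  rw [e]
  exact mul_mem (Subgroup.subset_closure (Or.inl ⟨as, fun x y => rfl⟩))
    (Subgroup.subset_closure (Or.inr ⟨σ.symm, fun x y => rfl⟩))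

/-- A scalar monomial operator permutes no factors. -/
theorem Mon.perm_eq_one (hm : 3 ≤ m) {σ : Equiv.Perm (Fin t)} {as : Fin t → GL (Fin m) F} {c : F} (hc : c ≠ 0)
    (h : Mon (c • (1 : Matrix (Idx m t) (Idx m t) F)) σ as) : σ = 1 := by
  classical
  refine Equiv.ext fun j => by_contra fun hj => ?_
  change σ j ≠ j at hj
  haveI : NeZero m := ⟨by omega⟩
  let e₀ : Fin m → F := Pi.single 0 1
  obtain ⟨θ, hθ, hθa, -⟩ := exists_perp_perp hm ((as j : Matrix (Fin m) (Fin m) F) *ᵥ e₀) 0
  obtain ⟨v, hv⟩ := exists_dot_eq_one' hθ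
  have h1 := congrArg (tp (Function.update (fun _ => e₀) j θ) ⬝ᵥ ·) (h (Function.update (fun _ => e₀) j v))
  simp only [Matrix.smul_mulVec, Matrix.one_mulVec, dotProduct_smul, dot_tp] at h1
  rw [Finset.prod_eq_one, smul_eq_mul, mul_one] at h1
  · refine hc (h1.trans (Finset.prod_eq_zero (Finset.mem_univ j) ?_))
    simp [hj, hθa]
  · intro i _
    rcases eq_or_ne i j with rfl | hij
    · simpa using hv
    · simp [hij, e₀, single_dotProduct]

theorem pm_pow (as : Fin t → Matrix (Fin m) (Fin m) F) : ∀ k : ℕ, pm as ^ k = pm fun i => as i ^ k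
  | 0 => by simp only [pow_zero]; exact pm_one.symm
  | k + 1 => by simp only [pow_succ, pm_pow as k, pm_mul]

theorem pm_smul (d : Fin t → F) (as : Fin t → Matrix (Fin m) (Fin m) F) :
    pm (fun i => d i • as i) = (∏ i, d i) • pm as := by
  ext x y
  simp [pm, Finset.prod_mul_distrib]

/-- Factors of a scalar tensor product are scalars. -/
theorem exists_smul_of_pm_eq (hm : 3 ≤ m) {bs : Fin t → Matrix (Fin m) (Fin m) F} {c : F} (hc : c ≠ 0)
    (h : pm bs = c • 1) (i : Fin t) : ∃ d : F, bs i = d • 1 := by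
  classical
  haveI : NeZero m := ⟨by omega⟩
  have hd : ∀ x : Idx m t, ∏ j, bs j (x j) (x j) = c := fun x => by
    have := congrFun (congrFun h x) x
    simpa [pm] using this
  have hne : ∀ j a, bs j a a ≠ 0 := fun j a h0 =>
    hc ((hd fun _ => a).symm.trans (Finset.prod_eq_zero (Finset.mem_univ j) h0))
  have hsp : ∀ a b : Fin m, ∏ j, bs j ((Function.update (0 : Idx m t) i a) j) ((Function.update (0 : Idx m t) i b) j) =
      bs i a b * ∏ j ∈ Finset.univ.erase i, bs j 0 0 := fun a b => by
    rw [← Finset.mul_prod_erase _ _ (Finset.mem_univ i), Function.update_self, Function.update_self]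
    congr 1
    refine Finset.prod_congr rfl fun j hj => ?_
    rw [Function.update_of_ne (Finset.ne_of_mem_erase hj), Function.update_of_ne (Finset.ne_of_mem_erase hj)]
    rfl
  have hR : ∏ j ∈ Finset.univ.erase i, bs j 0 0 ≠ 0 := Finset.prod_ne_zero_iff.2 fun j _ => hne j 0
  refine ⟨bs i 0 0, Matrix.ext fun a b => ?_⟩
  rw [Matrix.smul_apply, Matrix.one_apply]
  rcases eq_or_ne a b with rfl | hab
  · rw [if_pos rfl, smul_eq_mul, mul_one]
    refine mul_right_cancel₀ hR ?_
    rw [← hsp, ← hsp, hd, hd]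
  · rw [if_neg hab, smul_zero]
    refine mul_right_cancel₀ hR ?_
    rw [← hsp, zero_mul]
    have := congrFun (congrFun h (Function.update 0 i a)) (Function.update 0 i b)
    rw [Matrix.smul_apply, Matrix.one_apply, if_neg, smul_zero] at this
    · exact this
    · exact fun e => hab (by simpa using congrFun e i)

/-! ### Ranks -/

theorem rank_kronecker_ge {μ : Type} [Fintype μ] [DecidableEq μ] (A : Matrix (Fin m) (Fin m) F) (B : Matrix μ μ F) :
    A.rank * B.rank ≤ (A ⊗ₖ B).rank := by
  classical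
  let u := Module.finBasis F (LinearMap.range A.mulVecLin)
  let w := Module.finBasis F (LinearMap.range B.mulVecLin)
  have hu : LinearIndependent F fun i => ((u i : LinearMap.range A.mulVecLin) : Fin m → F) :=
    u.linearIndependent.map' (Submodule.subtype _) (Submodule.ker_subtype _)
  have hw : LinearIndependent F fun i => ((w i : LinearMap.range B.mulVecLin) : μ → F) :=
    w.linearIndependent.map' (Submodule.subtype _) (Submodule.ker_subtype _)
  let f := fun p : Fin (Module.finrank F (LinearMap.range A.mulVecLin)) ×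
    Fin (Module.finrank F (LinearMap.range B.mulVecLin)) => pl (u p.1 : Fin m → F) (w p.2 : μ → F)
  have hf : LinearIndependent F f := by
    rw [Fintype.linearIndependent_iff]
    intro g hg p
    have h1 : ∀ x, ∀ i, ∑ j, g (i, j) * (w j : μ → F) x = 0 := by
      intro x
      refine Fintype.linearIndependent_iff.1 hu _ ?_
      ext a
      have := congrFun hg (a, x)
      simp only [Finset.sum_apply, Pi.smul_apply, Fintype.sum_prod_type, f, pl, LinearMap.coe_mk, AddHom.coe_mk,
        Pi.zero_apply, smul_eq_mul] at this ⊢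
      rw [← this]
      exact Finset.sum_congr rfl fun i _ => by
        rw [Finset.sum_mul]; exact Finset.sum_congr rfl fun j _ => by ring
    refine Fintype.linearIndependent_iff.1 hw (fun j => g (p.1, j)) ?_ p.2
    ext x
    simpa [Finset.sum_apply] using h1 x p.1
  have hle : Submodule.span F (Set.range f) ≤ LinearMap.range (A ⊗ₖ B).mulVecLin := by
    rw [Submodule.span_le]
    rintro _ ⟨p, rfl⟩
    obtain ⟨a, ha⟩ := (u p.1).2
    obtain ⟨b, hb⟩ := (w p.2).2
    exact ⟨pl a b, by
      rw [Matrix.mulVecLin_apply, kronecker_mulVec_pl, ← Matrix.mulVecLin_apply, ← Matrix.mulVecLin_apply, ha, hb]⟩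
  have := Submodule.finrank_mono hle
  rw [finrank_span_eq_card hf, Fintype.card_prod, Fintype.card_fin, Fintype.card_fin] at this
  exact this

theorem rank_mul_add_rank_mul_le {ι : Type} [Fintype ι] [DecidableEq ι] {X N Y : Matrix ι ι F} (h : X * N * Y = 0) :
    (X * N).rank + (N * Y).rank ≤ N.rank := by
  let f := X.mulVecLin.domRestrict (LinearMap.range N.mulVecLin)
  have h1 := LinearMap.finrank_range_add_finrank_ker f
  have hr : LinearMap.range f = LinearMap.range (X * N).mulVecLin := by
    rw [LinearMap.range_domRestrict, Matrix.mulVecLin_mul, LinearMap.range_comp]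
  have hk : LinearMap.range (N * Y).mulVecLin ≤ (LinearMap.ker f).map (LinearMap.range N.mulVecLin).subtype := by
    rintro _ ⟨v, rfl⟩
    refine ⟨⟨(N * Y).mulVecLin v, Y.mulVecLin v, by simp [Matrix.mulVec_mulVec]⟩, ?_, rfl⟩
    simp [f, Matrix.mulVec_mulVec, ← mul_assoc, h]
  have h2 := Submodule.finrank_mono hk
  rw [Submodule.finrank_map_subtype_eq] at h2
  simp only [Matrix.rank]
  rw [hr] at h1
  omega

/-- A matrix of a projection onto a submodule with a prescribed kernel. -/
theorem exists_proj {κ : Type} [Fintype κ] [DecidableEq κ] (W : Submodule F (κ → F)) :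
    ∃ Q : Matrix κ κ F, (∀ v ∈ W, Q *ᵥ v = 0) ∧ Q.rank + Module.finrank F W = Fintype.card κ := by
  obtain ⟨W', hW'⟩ := W.exists_isCompl
  let f : (κ → F) →ₗ[F] (κ → F) := W'.subtype ∘ₗ W'.projectionOnto W hW'.symm
  refine ⟨LinearMap.toMatrix' f, fun v hv => ?_, ?_⟩
  · rw [LinearMap.toMatrix'_mulVec]
    simp [f, Submodule.projectionOnto_apply_eq_zero_iff hW'.symm |>.2 hv]
  · have h1 := LinearMap.finrank_range_add_finrank_ker f
    have hk : LinearMap.ker f = W := by
      ext v
      simp [f, Submodule.projectionOnto_apply_eq_zero_iff hW'.symm]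
    rw [hk, Module.finrank_fintype_fun_eq_card] at h1
    rw [← h1, Matrix.rank, ← Matrix.toLin'_apply', Matrix.toLin'_toMatrix']

theorem rank_pos {κ : Type} [Fintype κ] [DecidableEq κ] {A : Matrix κ κ F} (h : A ≠ 0) : 1 ≤ A.rank := by
  by_contra h0
  refine h (Matrix.ext_of_mulVec_single fun i => ?_)
  rw [Matrix.rank, not_le, Nat.lt_one_iff, Submodule.finrank_eq_zero, LinearMap.range_eq_bot] at h0
  rw [← Matrix.mulVecLin_apply, h0]
  ext k; simp

/-- A tensor of two deficient unipotents moves more than one factor. -/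
theorem lt_rank_kronecker_sub_one {μ : Type} [Fintype μ] [DecidableEq μ] (hm : 3 ≤ m)
    {α : Matrix (Fin m) (Fin m) F} {β : Matrix μ μ F} (hα : α ≠ 0) (hα' : α.rank < m) (hβ : β ≠ 0)
    (hβ' : β.rank < Fintype.card μ) : Fintype.card μ < ((1 + α) ⊗ₖ (1 + β) - 1).rank := by
  set N := (1 + α) ⊗ₖ (1 + β) - 1 with hN
  obtain ⟨Q, hQ, hQr⟩ := exists_proj (LinearMap.range β.mulVecLin)
  obtain ⟨P, hP, hPr⟩ := exists_proj (LinearMap.range α.transpose.mulVecLin)
  have hQβ : Q * β = 0 := Matrix.ext_of_mulVec_single fun i => by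
    rw [← Matrix.mulVec_mulVec, hQ (β *ᵥ _) ⟨_, rfl⟩, Matrix.zero_mulVec]
  have hPα : α * P.transpose = 0 := by
    rw [← Matrix.transpose_transpose α, ← Matrix.transpose_mul, Matrix.transpose_eq_zero]
    exact Matrix.ext_of_mulVec_single fun i => by rw [← Matrix.mulVec_mulVec, hP (α.transpose *ᵥ _) ⟨_, rfl⟩, Matrix.zero_mulVec]
  have e1 : ((1 : Matrix (Fin m) (Fin m) F) ⊗ₖ Q) * N = α ⊗ₖ Q := by
    rw [hN, Matrix.mul_sub, Matrix.mul_one, ← Matrix.mul_kronecker_mul, Matrix.one_mul, mul_add, hQβ, mul_one,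
      add_zero, add_kronecker, add_sub_cancel_left]
  have e2 : N * (P.transpose ⊗ₖ (1 : Matrix μ μ F)) = P.transpose ⊗ₖ β := by
    rw [hN, Matrix.sub_mul, Matrix.one_mul, ← Matrix.mul_kronecker_mul, Matrix.mul_one, add_mul, hPα, one_mul,
      add_zero, kronecker_add, add_sub_cancel_left]
  have h3 : ((1 : Matrix (Fin m) (Fin m) F) ⊗ₖ Q) * N * (P.transpose ⊗ₖ (1 : Matrix μ μ F)) = 0 := by
    rw [mul_assoc, e2, ← Matrix.mul_kronecker_mul, hQβ, kronecker_zero]
  have h4 := rank_mul_add_rank_mul_le h3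
  rw [e1, e2] at h4
  have h5 := rank_kronecker_ge α Q
  have h6 := rank_kronecker_ge P.transpose β
  rw [Matrix.rank_transpose] at h6
  have e7 : Module.finrank F (LinearMap.range α.transpose.mulVecLin) = α.rank := Matrix.rank_transpose α
  have e8 : Module.finrank F (LinearMap.range β.mulVecLin) = β.rank := rfl
  rw [e7, Fintype.card_fin] at hPr
  rw [e8] at hQr
  have ha := rank_pos hα
  have hb := rank_pos hβ
  nlinarith [Nat.mul_le_mul (show 1 ≤ α.rank from ha) (show 1 ≤ Q.rank by omega),
    Nat.mul_le_mul (show 1 ≤ P.rank by omega) hb, Nat.zero_le (Q.rank * β.rank)]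

theorem rank_lt_of_pow {κ : Type} [Fintype κ] [DecidableEq κ] [Nonempty κ] {A : Matrix κ κ F} {k : ℕ}
    (h : A ^ k = 0) : A.rank < Fintype.card κ := by
  have hdet : A.det = 0 := by
    have := congrArg Matrix.det h
    rw [Matrix.det_pow, Matrix.det_zero] at this
    exact eq_zero_of_pow_eq_zero this
  obtain ⟨v, hv, hv0⟩ := Matrix.exists_mulVec_eq_zero_iff.2 hdet
  have h1 := LinearMap.finrank_range_add_finrank_ker A.mulVecLin
  have h2 : LinearMap.ker A.mulVecLin ≠ ⊥ := (Submodule.ne_bot_iff _).2 ⟨v, hv0, hv⟩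
  rw [← Submodule.one_le_finrank_iff] at h2
  rw [Module.finrank_fintype_fun_eq_card] at h1
  rw [Matrix.rank]
  omega

theorem exists_vecMulVec_of_rank_le_one {κ : Type} [Fintype κ] [DecidableEq κ] {A : Matrix κ κ F} (h : A.rank ≤ 1)
    (h0 : A ≠ 0) : ∃ a φ : κ → F, a ≠ 0 ∧ φ ≠ 0 ∧ A = vecMulVec a φ := by
  obtain ⟨j, hj⟩ : ∃ j, A *ᵥ Pi.single j 1 ≠ 0 := by
    by_contra hcon
    push Not at hcon
    exact h0 (Matrix.ext_of_mulVec_single fun j => by rw [hcon j, Matrix.zero_mulVec])
  set a := A *ᵥ Pi.single j 1 with ha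
  have hle : Submodule.span F {a} ≤ LinearMap.range A.mulVecLin := by
    rw [Submodule.span_singleton_le_iff_mem]; exact ⟨_, rfl⟩
  have heq : Submodule.span F {a} = LinearMap.range A.mulVecLin :=
    Submodule.eq_of_le_of_finrank_le hle (by rw [finrank_span_singleton hj]; exact h)
  have hc : ∀ k, ∃ c : F, c • a = A *ᵥ Pi.single k 1 := fun k =>
    Submodule.mem_span_singleton.1 (heq ▸ ⟨_, rfl⟩ : A *ᵥ Pi.single k 1 ∈ Submodule.span F {a})
  choose φ hφ using hc
  refine ⟨a, φ, hj, fun h' => hj ?_, Matrix.ext_of_mulVec_single fun k => ?_⟩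
  · rw [ha, ← hφ j, h', Pi.zero_apply, zero_smul]
  · rw [← hφ k]
    ext i
    simp [Matrix.vecMulVec_apply, mul_comm]

theorem rank_rx (i : Fin (t + 1)) (X : Matrix (Idx m (t + 1)) (Idx m (t + 1)) F) : (rx i X).rank = X.rank :=
  Matrix.rank_reindex _ _ _

theorem slot_eq_zero {i : Fin t} {X : Matrix (Fin m) (Fin m) F} (hm : 3 ≤ m) (h : slot i X = 0) : X = 0 := by
  haveI : NeZero m := ⟨by omega⟩
  ext a b
  have := congrFun (congrFun h (Function.update (0 : Idx m t) i a)) (Function.update (0 : Idx m t) i b)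
  rw [slot_apply] at this
  simp only [pm, Matrix.zero_apply] at this ⊢
  rw [← Finset.mul_prod_erase _ _ (Finset.mem_univ i), Finset.prod_eq_one fun j hj => ?_] at this
  · simpa using this
  · simp [Finset.ne_of_mem_erase hj]

/-! ### The classification -/

/-- No more than one transposition. -/
theorem Mon.perm_involution (hm : 3 ≤ m) {z : Matrix (Idx m t) (Idx m t) F} {σ : Equiv.Perm (Fin t)}
    {as : Fin t → GL (Fin m) F} (hz : Mon z σ as) (hN : (z - 1) * (z - 1) = 0) : σ * σ = 1 := by
  classical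
  refine Equiv.ext fun j => by_contra fun hj => ?_
  change σ (σ j) ≠ j at hj
  have hk : σ j ≠ j := fun h => hj (by rw [h, h])
  haveI : NeZero m := ⟨by omega⟩
  let e₀ : Fin m → F := Pi.single 0 1
  obtain ⟨θ, hθ, hθ1, hθ2⟩ := exists_perp_perp hm ((as j : Matrix (Fin m) (Fin m) F) *ᵥ e₀)
    ((as j : Matrix (Fin m) (Fin m) F) *ᵥ ((as (σ j) : Matrix (Fin m) (Fin m) F) *ᵥ e₀))
  rw [Matrix.mulVec_mulVec] at hθ2
  obtain ⟨v, hv⟩ := exists_dot_eq_one' hθ
  set xs := Function.update (fun _ : Fin t => e₀) j v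
  set θs := Function.update (fun _ : Fin t => e₀) j θ
  have h1 : z *ᵥ (z *ᵥ tp xs) + tp xs = z *ᵥ tp xs + z *ᵥ tp xs := by
    have h := congrArg (· *ᵥ tp xs) hN
    simp only [← Matrix.mulVec_mulVec, Matrix.sub_mulVec, Matrix.one_mulVec, Matrix.mulVec_sub, Matrix.zero_mulVec,
      sub_eq_zero] at h
    have h' := sub_eq_iff_eq_add.1 h
    rw [h']; abel
  rw [hz, hz] at h1
  have h2 := congrArg (tp θs ⬝ᵥ ·) h1
  simp only [dotProduct_add, dot_tp] at h2
  rw [Finset.prod_eq_zero (Finset.mem_univ j) (by simp [θs, xs, hk, hj, hθ2]),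
    Finset.prod_eq_one (fun i _ => by
      rcases eq_or_ne i j with rfl | hij
      · simpa [θs, xs] using hv
      · simp [θs, xs, hij, e₀, single_dotProduct]),
    Finset.prod_eq_zero (Finset.mem_univ j) (by simp [θs, xs, hk, hθ1])] at h2
  simp at h2

section charP

variable [Finite F]

set_option maxHeartbeats 800000 in
/-- The identity plus a rank one factor, or a single transposition. -/
theorem Mon.classify (hm : 3 ≤ m) {z : Matrix (Idx m (t + 1)) (Idx m (t + 1)) F}
    {σ : Equiv.Perm (Fin (t + 1))} {as : Fin (t + 1) → GL (Fin m) F} (hz : Mon z σ as)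
    (hN : (z - 1) * (z - 1) = 0) (hr : (z - 1).rank = m ^ t) :
    (∃ i a φ, a ≠ 0 ∧ φ ≠ 0 ∧ φ ⬝ᵥ a = 0 ∧ z = 1 + slot i (vecMulVec a φ)) ∨ σ.IsSwap := by
  classical
  haveI : NeZero m := ⟨by omega⟩
  have hσ2 := hz.perm_involution hm hN
  obtain ⟨p, hp⟩ := CharP.exists F
  haveI : Fact p.Prime := ⟨CharP.char_is_prime F p⟩
  have hp2 : 2 ≤ p := (CharP.char_is_prime F p).two_le
  haveI : CharP (Matrix (Idx m (t + 1)) (Idx m (t + 1)) F) p := inferInstance
  have hzp : z ^ p = 1 := by
    have h1 : (z - 1) ^ p = 0 := pow_eq_zero_of_le hp2 (by rw [pow_two, hN])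
    rwa [sub_pow_char_of_commute p (Commute.one_right z), one_pow, sub_eq_zero] at h1
  obtain ⟨bs, hbs⟩ := hz.pow p
  rw [hzp, ← one_smul F (1 : Matrix (Idx m (t + 1)) _ F)] at hbs
  have hσp : σ ^ p = 1 := hbs.perm_eq_one hm one_ne_zero
  by_cases hσ : σ = 1
  · left
    subst hσ
    have hzas : z = pm fun i => (as i : Matrix (Fin m) (Fin m) F) := ext_tp fun xs => by
      rw [hz, pm_mulVec]; rfl
    have hfrob : ∀ c : F, ∃ d, d ^ p = c := fun c =>
      (Finite.injective_iff_surjective.1 (frobenius_inj F p)) c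
    have hpow := hzp
    rw [hzas, pm_pow, ← one_smul F (1 : Matrix (Idx m (t + 1)) _ F)] at hpow
    choose c hc using exists_smul_of_pm_eq hm (one_ne_zero (α := F)) hpow
    choose d hd using fun i => hfrob (c i)
    have hd0 : ∀ i, d i ≠ 0 := fun i h0 => by
      have h1 : ((as i ^ p : GL (Fin m) F) : Matrix (Fin m) (Fin m) F) = 0 := by
        rw [Units.val_pow_eq_pow_val, hc, ← hd, h0, zero_pow (by omega), zero_smul]
      exact Units.ne_zero _ h1
    let u : Fin (t + 1) → Matrix (Fin m) (Fin m) F := fun i => (d i)⁻¹ • (as i : Matrix (Fin m) (Fin m) F)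
    have hup : ∀ i, u i ^ p = 1 := fun i => by
      rw [show u i = (d i)⁻¹ • (as i : Matrix (Fin m) (Fin m) F) from rfl, smul_pow, hc, smul_smul, inv_pow, hd,
        inv_mul_cancel₀ (by rw [← hd]; exact pow_ne_zero _ (hd0 i)), one_smul]
    have hzu : z = (∏ i, d i) • pm u := by
      rw [← pm_smul, hzas]
      congr 1
      funext i
      simp only [u]
      rw [smul_smul, mul_inv_cancel₀ (hd0 i), one_smul]
    have hD : ∏ i, d i = 1 := by
      have h1 := hzp
      rw [hzu, smul_pow, pm_pow] at h1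
      simp only [hup] at h1
      rw [show pm (fun _ : Fin (t + 1) => (1 : Matrix (Fin m) (Fin m) F)) = 1 from pm_one] at h1
      have h2 := congrFun (congrFun h1 0) 0
      simp at h2
      exact frobenius_inj F p (by rw [frobenius_def, frobenius_def, h2, one_pow])
    rw [hD, one_smul] at hzu
    haveI : CharP (Matrix (Fin m) (Fin m) F) p := inferInstance
    have hnil : ∀ i, (u i - 1) ^ p = 0 := fun i => by
      rw [sub_pow_char_of_commute p (Commute.one_right (u i)), hup, one_pow, sub_self]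
    obtain ⟨i, hi⟩ : ∃ i, u i ≠ 1 := by
      by_contra h
      push Not at h
      rw [hzu, show u = 1 from funext h, pm_one, sub_self, Matrix.rank_zero] at hr
      exact absurd hr.symm (pow_ne_zero _ (by omega))
    have hrest : i.removeNth u = 1 := by
      by_contra hne
      have hcard : Fintype.card (Idx m t) = m ^ t := by simp
      have hτp : pm (i.removeNth u) ^ p = 1 := by
        rw [pm_pow]
        simp only [Fin.removeNth, hup]
        exact pm_one
      have hτne : pm (i.removeNth u) ≠ 1 := fun h => hne (funext fun l => by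
        rw [← one_smul F (1 : Matrix (Idx m t) _ F)] at h
        obtain ⟨e, he⟩ := exists_smul_of_pm_eq hm (one_ne_zero (α := F)) h l
        have h1 : u (i.succAbove l) ^ p = 1 := hup _
        rw [show i.removeNth u l = u (i.succAbove l) from rfl] at he ⊢
        rw [he, smul_pow, one_pow] at h1
        have h2 := congrFun (congrFun h1 0) 0
        simp at h2
        have h3 : e = 1 := frobenius_inj F p (by simpa [frobenius_def] using h2)
        rw [he, h3, one_smul]; rfl)
      have h1 := lt_rank_kronecker_sub_one hm (α := u i - 1) (β := pm (i.removeNth u) - 1) (sub_ne_zero.2 hi)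
        (by simpa using rank_lt_of_pow (hnil i)) (sub_ne_zero.2 hτne)
        (rank_lt_of_pow (k := p) (by
          haveI : CharP (Matrix (Idx m t) (Idx m t) F) p := inferInstance
          rw [sub_pow_char_of_commute p (Commute.one_right _), hτp, one_pow, sub_self]))
      rw [add_sub_cancel, add_sub_cancel, ← rx_pm, ← map_one (rx (F := F) (m := m) i), ← map_sub, rank_rx, ← hzu,
        hr, hcard] at h1
      exact lt_irrefl _ h1
    have hus : u = Function.update (1 : Fin (t + 1) → Matrix (Fin m) (Fin m) F) i (u i) := funext fun l => by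
      rcases Fin.eq_self_or_eq_succAbove i l with rfl | ⟨l, rfl⟩
      · simp
      · rw [Function.update_of_ne (Fin.succAbove_ne i l)]
        exact congrFun hrest l
    have hz1 : z = 1 + slot i (u i - 1) := by
      rw [hzu, hus, ← slot_apply, map_sub, slot_one]
      simp
    have hle : (u i - 1).rank ≤ 1 := by
      have h1 := rank_kronecker_ge (u i - 1) (1 : Matrix (Idx m t) (Idx m t) F)
      rw [← rx_slot_same i, rank_rx, Matrix.rank_one] at h1
      rw [hz1, add_sub_cancel_left] at hr
      rw [hr] at h1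
      have hpos : 0 < m ^ t := pow_pos (by omega) t
      simp only [Fintype.card_fun, Fintype.card_fin] at h1
      exact Nat.le_of_mul_le_mul_right (by simpa using h1) hpos
    obtain ⟨a, φ, ha, hφ, he⟩ := exists_vecMulVec_of_rank_le_one hle (sub_ne_zero.2 hi)
    refine ⟨i, a, φ, ha, hφ, ?_, by rw [hz1, he]⟩
    have h2 : slot i ((u i - 1) * (u i - 1)) = 0 := by
      rw [← slot_mul]
      rw [hz1, add_sub_cancel_left] at hN
      exact hN
    have h3 := slot_eq_zero hm h2
    rw [he, vecMulVec_mul_vecMulVec, vecMulVec_smul] at h3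
    exact (smul_eq_zero.1 h3).resolve_right (fun h => sub_ne_zero.2 hi (by rw [he, h]))
  right
  -- the characteristic is two and the square is trivial
  have hp2' : p = 2 := by
    by_contra hne
    have hodd : Odd p := (CharP.char_is_prime F p).odd_of_ne_two hne
    obtain ⟨q, rfl⟩ := hodd
    rw [pow_succ, pow_mul, pow_two, hσ2, one_pow, one_mul] at hσp
    exact hσ hσp
  subst hp2'
  have hsq : ∀ i, ∃ c : F, (as i : Matrix (Fin m) (Fin m) F) * (as (σ i) : Matrix (Fin m) (Fin m) F) = c • 1 := by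
    have h1 := hz.mul hz
    rw [← pow_two, hzp, hσ2] at h1
    have h2 : pm (fun i => ((as i * as (σ i) : GL (Fin m) F) : Matrix (Fin m) (Fin m) F)) = 1 • 1 := by
      rw [one_smul]
      exact ext_tp fun xs => by rw [h1 xs, pm_mulVec]; rfl
    intro i
    obtain ⟨c, hc⟩ := exists_smul_of_pm_eq hm (c := (1 : F)) one_ne_zero (by simpa using h2) i
    exact ⟨c, hc⟩
  obtain ⟨j, hj⟩ : ∃ j, σ j ≠ j := by
    by_contra h; push Not at h; exact hσ (Equiv.ext h)
  have hinv : ∀ x, σ (σ x) = x := fun x => by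
    show (σ * σ) x = x
    rw [hσ2]; rfl
  by_contra hns
  obtain ⟨l, hlj, hlk, hl⟩ : ∃ l, l ≠ j ∧ l ≠ σ j ∧ σ l ≠ l := by
    by_contra h
    push Not at h
    refine hns ⟨j, σ j, hj.symm, Equiv.ext fun x => ?_⟩
    rcases eq_or_ne x j with rfl | hxj
    · simp
    rcases eq_or_ne x (σ j) with rfl | hxk
    · simp [hinv]
    · rw [Equiv.swap_apply_of_ne_of_ne hxj hxk, h x hxj hxk]
  set k := σ j with hkdef
  set o := σ l with hodef
  have hkj : σ k = j := hinv j
  have hol : σ o = l := hinv l
  have hoj : o ≠ j := fun h => hlk (by rw [hkdef, ← h, hol])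
  have hok : o ≠ k := fun h => hlj (σ.injective h)
  -- coordinates
  let C : Fin (t + 1) → GL (Fin m) F := fun i => if i = k ∨ i = o then as i else 1
  let P : Matrix (Idx m (t + 1)) (Idx m (t + 1)) F := pm fun i => (C i : Matrix (Fin m) (Fin m) F)
  let P' : Matrix (Idx m (t + 1)) (Idx m (t + 1)) F := pm fun i => (((C i)⁻¹ : GL (Fin m) F) : Matrix (Fin m) (Fin m) F)
  let cs : Fin (t + 1) → GL (Fin m) F := fun i => (C i)⁻¹ * as i * C (σ i)
  set y := P' * z * P with hy
  have hyc : ∀ x' x, y x' x = ∏ i, (cs i : Matrix (Fin m) (Fin m) F) (x' i) (x (σ i)) := by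
    intro x' x
    have h1 : y *ᵥ Pi.single x 1 = tp fun i => (cs i : Matrix (Fin m) (Fin m) F) *ᵥ Pi.single (x (σ i)) 1 := by
      rw [← tp_single, hy, ← Matrix.mulVec_mulVec, ← Matrix.mulVec_mulVec, pm_mulVec, hz, pm_mulVec]
      congr 1
      funext i
      simp only [cs, Units.val_mul, ← Matrix.mulVec_mulVec]
    have h2 := congrFun h1 x'
    simpa [tp, Matrix.mulVec_single_one] using h2
  have hcs : ∀ i, (i = j ∨ i = k ∨ i = l ∨ i = o) → ∃ c : F, (cs i : Matrix (Fin m) (Fin m) F) = c • 1 := by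
    intro i hi
    rcases hi with rfl | rfl | rfl | rfl
    · obtain ⟨c, hc⟩ := hsq i
      refine ⟨c, ?_⟩
      simp [cs, C, hj.symm, hoj.symm, ← hkdef, ← hc]
    · refine ⟨1, ?_⟩
      simp [cs, C, hkj, hj.symm, hoj.symm]
    · obtain ⟨c, hc⟩ := hsq i
      refine ⟨c, ?_⟩
      simp [cs, C, hlk, hl.symm, ← hodef, ← hc]
    · refine ⟨1, ?_⟩
      simp [cs, C, hol, hlk, hl.symm]
  have hsupp : ∀ x' x, y x' x ≠ 0 → x' j = x k ∧ x' k = x j ∧ x' l = x o ∧ x' o = x l := by
    intro x' x h
    rw [hyc, Finset.prod_ne_zero_iff] at h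
    have hh : ∀ i, (i = j ∨ i = k ∨ i = l ∨ i = o) → x' i = x (σ i) := fun i hi => by
      obtain ⟨c, hc⟩ := hcs i hi
      by_contra hne
      exact h i (Finset.mem_univ i) (by rw [hc, Matrix.smul_apply, Matrix.one_apply_ne hne, smul_zero])
    refine ⟨hh j (by simp), ?_, hh l (by simp), ?_⟩
    · rw [← hkj]; exact hh k (by simp)
    · rw [← hol]; exact hh o (by simp)
  -- vectors supported before their images
  let U : Finset (Idx m (t + 1)) := Finset.univ.filter fun x => x j < x k ∨ (x j = x k ∧ x l < x o)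
  let V : Finset (Idx m (t + 1)) := Finset.univ.filter fun x => x k < x j ∨ (x k = x j ∧ x o < x l)
  let E : Finset (Idx m (t + 1)) := Finset.univ.filter fun x => x j = x k ∧ x l = x o
  have hUV : V.card ≤ U.card := by
    refine Finset.card_le_card_of_injOn (fun x => x ∘ σ) (fun x hx => ?_) (fun x _ x' _ h => ?_)
    · simp only [Finset.mem_coe, U, V, Finset.mem_filter, Finset.mem_univ, true_and] at hx ⊢
      simpa [← hkdef, ← hodef, hkj, hol] using hx
    · funext i
      have := congrFun h (σ i)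
      simpa [hinv] using this
  have hE : E.card * (m * m) ≤ m ^ (t + 1) := by
    have h1 := Finset.card_le_card_of_injOn (s := E ×ˢ (Finset.univ : Finset (Fin m × Fin m)))
      (t := (Finset.univ : Finset (Idx m (t + 1)))) (fun q => Function.update (Function.update q.1 k q.2.1) o q.2.2)
      (fun q _ => Finset.mem_univ _) (fun q hq q' hq' h => ?_)
    · simpa using h1
    · simp only [Finset.mem_coe, Finset.mem_product, E, Finset.mem_filter, Finset.mem_univ, true_and, and_true] at hq hq'
      have hk' : q.2.1 = q'.2.1 := by simpa [hok.symm] using congrFun h k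
      have ho' : q.2.2 = q'.2.2 := by simpa using congrFun h o
      refine Prod.ext (funext fun i => ?_) (Prod.ext hk' ho')
      have hj' : q.1 j = q'.1 j := by simpa [hoj.symm, hj.symm] using congrFun h j
      have hl' : q.1 l = q'.1 l := by simpa [hlk, hl.symm] using congrFun h l
      rcases eq_or_ne i k with rfl | hik
      · rw [← hq.1, ← hq'.1, hj']
      rcases eq_or_ne i o with rfl | hio
      · rw [← hq.2, ← hq'.2, hl']
      simpa [hik, hio] using congrFun h i
  have htot : m ^ (t + 1) ≤ U.card + V.card + E.card := by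
    calc m ^ (t + 1) = (Finset.univ : Finset (Idx m (t + 1))).card := by simp
      _ ≤ (U ∪ V ∪ E).card := Finset.card_le_card fun x _ => by
          simp only [U, V, E, Finset.mem_union, Finset.mem_filter, Finset.mem_univ, true_and]
          omega
      _ ≤ _ := (Finset.card_union_le _ _).trans (by have := Finset.card_union_le U V; omega)
  have hU : U.card ≤ (y - 1).rank := by
    let L : (U → F) →ₗ[F] (Idx m (t + 1) → F) := Function.ExtendByZero.linearMap F Subtype.val
    have hinj : Function.Injective ((y - 1).mulVecLin ∘ₗ L) := by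
      rw [← LinearMap.ker_eq_bot, LinearMap.ker_eq_bot']
      intro v hv
      funext ⟨x, hx⟩
      have h1 := congrFun hv x
      simp only [LinearMap.comp_apply, Matrix.mulVecLin_apply, Matrix.sub_mulVec, Matrix.one_mulVec, Pi.sub_apply,
        Pi.zero_apply, sub_eq_zero] at h1
      have h2 : (y *ᵥ L v) x = 0 := by
        simp only [Matrix.mulVec, dotProduct]
        refine Finset.sum_eq_zero fun x₁ _ => ?_
        by_cases hx₁ : x₁ ∈ U
        · by_cases hy0 : y x x₁ = 0
          · rw [hy0, zero_mul]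
          obtain ⟨e1, e2, e3, e4⟩ := hsupp x x₁ hy0
          simp only [U, Finset.mem_filter, Finset.mem_univ, true_and] at hx hx₁
          omega
        · have : L v x₁ = 0 := Function.extend_apply' _ _ _ fun ⟨⟨a, ha⟩, e⟩ => hx₁ (e ▸ ha)
          rw [this, mul_zero]
      rw [h2] at h1
      have h3 : L v x = v ⟨x, hx⟩ := Subtype.val_injective.extend_apply v 0 ⟨x, hx⟩
      rw [Pi.zero_apply, ← h3, h1]
    have h4 := LinearMap.finrank_range_of_inj hinj
    rw [Module.finrank_fintype_fun_eq_card, Fintype.card_coe] at h4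
    rw [← h4, Matrix.rank]
    exact Submodule.finrank_mono (LinearMap.range_comp_le_range _ _)
  have hyz : (y - 1).rank ≤ (z - 1).rank := by
    have e : y - 1 = P' * (z - 1) * P := by
      rw [Matrix.mul_sub, Matrix.sub_mul, Matrix.mul_one, hy, show P' * P = 1 by
        simp only [P, P', pm_mul, ← Units.val_mul, inv_mul_cancel, Units.val_one]; exact pm_one]
    rw [e]
    exact (Matrix.rank_mul_le_left _ _).trans (Matrix.rank_mul_le_right _ _)
  rw [hr] at hyz
  have h1 : m ^ (t + 1) ≤ 2 * m ^ t + E.card := by omega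
  have hpos : 0 < m ^ t := pow_pos (by omega) t
  have h2 := Nat.mul_le_mul_right (m * m) h1
  rw [pow_succ] at h1 h2 hE
  nlinarith [Nat.mul_le_mul_left (m ^ t) (show 2 * (m * m) + m < m * (m * m) by nlinarith)]

end charP

end CfsgLib.TensorWreathMax
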