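import Mathlib
import Cfsg.Agent.Lib.TensorWreathMax.Classify
import Cfsg.Agent.Lib.Frobenius.Theorem
import Cfsg.Agent.Lib.Frobenius.Action

/-!
A subgroup containing all root elements of the factors of a tensor power and not the special linear group
is monomial, and so is everything conjugating those root elements into it.
-/

set_option autoImplicit false
set_option linter.unusedSectionVars false
set_option linter.unusedSimpArgs false

namespace CfsgLib.TensorWreathMax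

open Matrix Module
open scoped Kronecker
open CfsgLib.Maximal.TensorPower

attribute [-simp] Matrix.coe_units_inv

variable {F : Type*} [Field F] {m t : ℕ}

/-- The root elements are conjugated into the group. -/
def ConjIn (M : Subgroup (GL (Idx m t) F)) (g : GL (Idx m t) F) : Prop :=
  ∀ i a φ, φ ⬝ᵥ a = 0 →
    In M (1 + (g : Matrix (Idx m t) (Idx m t) F) * slot i (vecMulVec a φ) * ((g⁻¹ : GL (Idx m t) F) : Matrix _ _ F))

theorem ConjIn.of_mem {M : Subgroup (GL (Idx m t) F)} (hF : Full M) {g : GL (Idx m t) F} (hg : g ∈ M) :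
    ConjIn M g := fun i a φ h => In.conj hg (hF.root i a φ h)

theorem isMonomial_mul {g h : GL (Idx m t) F} (hg : IsMonomial g) (hh : IsMonomial h) : IsMonomial (g * h) :=
  isMonomial_of_mem (mul_mem (mem_standard hg) (mem_standard hh))

theorem isMonomial_inv {g : GL (Idx m t) F} (hg : IsMonomial g) : IsMonomial g⁻¹ :=
  isMonomial_of_mem (inv_mem (mem_standard hg))

theorem Mon.slot_comm' {z : Matrix (Idx m t) (Idx m t) F} {σ : Equiv.Perm (Fin t)} {as : Fin t → GL (Fin m) F}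
    (hz : Mon z σ as) (i : Fin t) (X : Matrix (Fin m) (Fin m) F) :
    z * slot (σ i) X =
      slot i ((as i : Matrix (Fin m) (Fin m) F) * X * (((as i)⁻¹ : GL (Fin m) F) : Matrix (Fin m) (Fin m) F)) * z :=
  ext_tp fun xs => by
    rw [← Matrix.mulVec_mulVec, ← Matrix.mulVec_mulVec, slot_mulVec, hz, hz, slot_mulVec]
    congr 1
    funext l
    rcases eq_or_ne l i with rfl | hl
    · simp [Matrix.mulVec_mulVec, mul_assoc]
    · simp [hl]

theorem conj_vecMulVec (A : GL (Fin m) F) (a φ : Fin m → F) :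
    (A : Matrix (Fin m) (Fin m) F) * vecMulVec a φ * ((A⁻¹ : GL (Fin m) F) : Matrix (Fin m) (Fin m) F) =
      vecMulVec ((A : Matrix (Fin m) (Fin m) F) *ᵥ a) (φ ᵥ* ((A⁻¹ : GL (Fin m) F) : Matrix (Fin m) (Fin m) F)) := by
  rw [mul_vecMulVec, vecMulVec_mul]

theorem dot_conj (A : GL (Fin m) F) (a φ : Fin m → F) :
    (φ ᵥ* ((A⁻¹ : GL (Fin m) F) : Matrix (Fin m) (Fin m) F)) ⬝ᵥ ((A : Matrix (Fin m) (Fin m) F) *ᵥ a) = φ ⬝ᵥ a := by
  rw [← dotProduct_mulVec, GeomClasses.gl_inv_mulVec_mulVec]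

theorem ConjIn.mul_monomial {M : Subgroup (GL (Idx m t) F)} {g h : GL (Idx m t) F} (hg : ConjIn M g)
    (hh : IsMonomial h) : ConjIn M (g * h) := by
  obtain ⟨σ, as, hσ⟩ := hh
  intro i a φ haφ
  have h1 := Mon.slot_comm' (z := (h : Matrix (Idx m t) (Idx m t) F)) hσ (σ.symm i) (vecMulVec a φ)
  rw [Equiv.apply_symm_apply, conj_vecMulVec] at h1
  have h2 := hg (σ.symm i) _ _ ((dot_conj (as (σ.symm i)) a φ).trans haφ)
  rw [_root_.mul_inv_rev, Units.val_mul, Units.val_mul, mul_assoc (g : Matrix (Idx m t) (Idx m t) F), h1]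
  convert h2 using 2
  simp [mul_assoc]

/-- A monomial operator with given permutation and factors. -/
theorem exists_monomial (σ : Equiv.Perm (Fin t)) (as : Fin t → GL (Fin m) F) :
    ∃ h : GL (Idx m t) F, Mon (h : Matrix (Idx m t) (Idx m t) F) σ as := by
  let p : GL (Idx m t) F := ⟨permM σ, permM σ⁻¹,
    ext_tp fun xs => by rw [← Matrix.mulVec_mulVec, permM_mulVec, permM_mulVec, Matrix.one_mulVec]; simp,
    ext_tp fun xs => by rw [← Matrix.mulVec_mulVec, permM_mulVec, permM_mulVec, Matrix.one_mulVec]; simp⟩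
  let C : GL (Idx m t) F := ⟨pm fun j => (as j : Matrix (Fin m) (Fin m) F),
    pm fun j => (((as j)⁻¹ : GL (Fin m) F) : Matrix (Fin m) (Fin m) F),
    by simp only [pm_mul, ← Units.val_mul, mul_inv_cancel, Units.val_one]; exact pm_one,
    by simp only [pm_mul, ← Units.val_mul, inv_mul_cancel, Units.val_one]; exact pm_one⟩
  refine ⟨C * p, fun xs => ?_⟩
  rw [Units.val_mul, ← Matrix.mulVec_mulVec]
  show pm _ *ᵥ (permM σ *ᵥ tp xs) = _
  rw [permM_mulVec, pm_mulVec]

/-- A transvection or homology moving one functional to another. -/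
theorem exists_vecMul_eq {φ ψ : Fin m → F} (hφ : φ ≠ 0) (hψ : ψ ≠ 0) :
    ∃ A : GL (Fin m) F, ψ ᵥ* (A : Matrix (Fin m) (Fin m) F) = φ := by
  obtain ⟨b₁, h₁⟩ := exists_dot_eq_one' hφ
  obtain ⟨b₂, h₂⟩ := exists_dot_eq_one' hψ
  obtain ⟨b, hb, hb'⟩ : ∃ b, φ ⬝ᵥ b ≠ 0 ∧ ψ ⬝ᵥ b ≠ 0 := by
    by_cases h : ψ ⬝ᵥ b₁ = 0
    swap
    · exact ⟨b₁, by simp [h₁], h⟩
    by_cases h' : φ ⬝ᵥ b₂ = 0
    swap
    · exact ⟨b₂, h', by simp [h₂]⟩
    exact ⟨b₁ + b₂, by simp [dotProduct_add, h₁, h'], by simp [dotProduct_add, h₂, h]⟩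
  set χ := (ψ ⬝ᵥ b)⁻¹ • (φ - ψ) with hχ
  have hdet : (1 + vecMulVec b χ).det ≠ 0 := by
    rw [vecMulVec_eq Unit, det_one_add_replicateCol_mul_replicateRow, hχ, smul_dotProduct, sub_dotProduct, smul_eq_mul,
      mul_sub, inv_mul_cancel₀ hb', add_sub_cancel]
    exact mul_ne_zero (inv_ne_zero hb') hb
  refine ⟨GeneralLinearGroup.mkOfDetNeZero _ hdet, ?_⟩
  show ψ ᵥ* (1 + vecMulVec b χ) = φ
  rw [vecMul_add, vecMul_one, vecMul_vecMulVec, hχ, smul_smul, mul_inv_cancel₀ hb', one_smul, add_sub_cancel]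

/-! ### Vectors at a splitting -/

/-- Vectors at a splitting. -/
def tvec (i : Fin (t + 1)) : (Idx m (t + 1) → F) ≃ₗ[F] (Fin m × Idx m t → F) :=
  LinearEquiv.funCongrLeft F F (split i).symm

theorem tvec_tp (i : Fin (t + 1)) (xs : Fin (t + 1) → Fin m → F) :
    tvec i (tp xs) = pl (xs i) (tp (i.removeNth xs)) := by
  ext ⟨a, x⟩
  simp [tvec, tp, pl, LinearEquiv.funCongrLeft_apply, LinearMap.funLeft, split_symm_apply,
    Fin.prod_univ_succAbove _ i, Fin.removeNth]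

theorem rx_mulVec_tvec (i : Fin (t + 1)) (X : Matrix (Idx m (t + 1)) (Idx m (t + 1)) F) (v : Idx m (t + 1) → F) :
    rx i X *ᵥ tvec i v = tvec i (X *ᵥ v) := by
  ext p
  simp only [Matrix.mulVec, dotProduct, tvec, LinearEquiv.funCongrLeft_apply, LinearMap.funLeft, LinearMap.coe_mk,
    AddHom.coe_mk, Function.comp_apply, Matrix.reindexAlgEquiv_apply, Matrix.reindex_apply, Matrix.submatrix_apply]
  exact Equiv.sum_comp (split i).symm fun y => X ((split i).symm p) y * v y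

theorem pl_eq_zero {μ : Type} [Fintype μ] [DecidableEq μ] {a : Fin m → F} (ha : a ≠ 0) {u : μ → F}
    (h : pl a u = 0) : u = 0 := by
  obtain ⟨θ, hθ⟩ := exists_dot_eq_one ha
  have h1 := congrArg (ct θ) h
  rwa [ct_pl, hθ, one_smul, map_zero] at h1

theorem slot_mulVec_eq_zero {i : Fin (t + 1)} {a φ : Fin m → F} (ha : a ≠ 0) (v : Idx m (t + 1) → F) :
    slot i (vecMulVec a φ) *ᵥ v = 0 ↔ ct φ (tvec i v) = 0 := by
  rw [← (tvec i).map_eq_zero_iff, ← rx_mulVec_tvec, rx_slot_same,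
    show vecMulVec a φ ⊗ₖ (1 : Matrix (Idx m t) (Idx m t) F) = nm a φ 1 from rfl, nm_mulVec, Matrix.one_mulVec]
  exact ⟨pl_eq_zero ha, fun h => by rw [h, map_zero]⟩

/-! ### The right factor of the stabiliser of a root kernel -/

/-- `τ ↦ 1 ⊗ τ`. -/
def rightHom (m : ℕ) (μ : Type) [Fintype μ] [DecidableEq μ] : GL μ F →* GL (Fin m × μ) F :=
  Units.map
    { toFun := fun X => (1 : Matrix (Fin m) (Fin m) F) ⊗ₖ X
      map_one' := one_kronecker_one
      map_mul' := fun X Y => by rw [← Matrix.mul_kronecker_mul, one_mul] }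

/-- The right factor group at a splitting. -/
def Gam (i : Fin (t + 1)) (M : Subgroup (GL (Idx m (t + 1)) F)) : Subgroup (GL (Idx m t) F) :=
  (Ms i M).comap (rightHom m (Idx m t))

theorem in_gam (hm : 3 ≤ m) {i : Fin (t + 1)} {M : Subgroup (GL (Idx m (t + 1)) F)}
    {X : Matrix (Idx m t) (Idx m t) F} (h : In (Ms i M) ((1 : Matrix (Fin m) (Fin m) F) ⊗ₖ X)) : In (Gam i M) X := by
  obtain ⟨g, hg, hX⟩ := h
  have hdet : X.det ≠ 0 := by
    intro h0
    have h1 : (g : Matrix (Fin m × Idx m t) (Fin m × Idx m t) F).det ≠ 0 :=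
      ((Matrix.isUnit_iff_isUnit_det _).1 ⟨g, rfl⟩).ne_zero
    rw [hX, Matrix.det_kronecker, h0, zero_pow (by simp; omega), mul_zero] at h1
    exact h1 rfl
  refine ⟨GeneralLinearGroup.mkOfDetNeZero X hdet, ?_, rfl⟩
  show rightHom m (Idx m t) _ ∈ Ms i M
  convert hg
  exact Units.ext hX.symm

theorem Full.gam (hm : 3 ≤ m) {M : Subgroup (GL (Idx m (t + 1)) F)} (hF : Full M) (i : Fin (t + 1)) :
    Full (Gam i M) := by
  classical
  refine ⟨fun j a φ h => in_gam hm ?_, fun ht j k hjk => ?_⟩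
  · have h1 := in_ms_rx (i := i).2 (hF.root (i.succAbove j) a φ h)
    rwa [map_add, map_one, rx_slot_succAbove, ← one_kronecker_one, ← kronecker_add] at h1
  · obtain ⟨c, hc, hp⟩ := hF.perm (by omega) (i.succAbove j) (i.succAbove k) (by simpa using hjk)
    refine ⟨c, hc, in_gam hm ?_⟩
    have h1 := in_ms_rx (i := i).2 hp
    rw [map_smul] at h1
    rw [kronecker_smul]
    convert h1 using 1
    ext ⟨a, x⟩ ⟨b, y⟩
    simp only [Matrix.smul_apply, Matrix.kroneckerMap_apply, Matrix.reindexAlgEquiv_apply, Matrix.reindex_apply,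
      Matrix.submatrix_apply, permM, Matrix.one_apply, split_symm_apply, Equiv.symm_swap]
    have e : i.insertNth a x ∘ Equiv.swap (i.succAbove j) (i.succAbove k) =
        i.insertNth a (x ∘ Equiv.swap j k) := by
      funext l
      rcases Fin.eq_self_or_eq_succAbove i l with rfl | ⟨l, rfl⟩
      · simp [Equiv.swap_apply_of_ne_of_ne (Fin.ne_succAbove l j) (Fin.ne_succAbove l k)]
      · simp only [Function.comp_apply]
        rw [← Fin.succAbove_right_injective.map_swap]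
        simp
    simp only [e, Fin.insertNth_inj]
    by_cases h1 : a = b <;> by_cases h2 : y = x ∘ ⇑(Equiv.swap j k) <;> simp [h1, h2, Ne.symm]

theorem Full.gam_proper (hm : 3 ≤ m) (ht : 2 ≤ t) {M : Subgroup (GL (Idx m (t + 1)) F)} (hF : Full M)
    (hSL : ¬ Cfsg.Geo.specialLinear (Idx m (t + 1)) F ≤ M) (i : Fin (t + 1)) :
    ¬ Cfsg.Geo.specialLinear (Idx m t) F ≤ Gam i M := by
  classical
  intro hle
  obtain ⟨u, v, -, huv, -, -⟩ := exists_triple hm
  let x : Idx m t := fun _ => u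
  let y : Idx m t := fun _ => v
  have hxy : x ≠ y := fun h => huv (congrFun h ⟨0, by omega⟩)
  have hdot : (Pi.single y (1 : F) : Idx m t → F) ⬝ᵥ Pi.single x 1 = 0 := by simp [single_dotProduct, hxy.symm]
  have hmem : In (Ms i M) ((1 : Matrix (Fin m) (Fin m) F) ⊗ₖ (1 + vecMulVec (Pi.single x (1 : F)) (Pi.single y 1))) :=
    ⟨_, hle (GeomClasses.tv_mem_specialLinear (Pi.single x (1 : F)) (Pi.single y 1)), by
      show (1 : Matrix (Fin m) (Fin m) F) ⊗ₖ Units.val (GeomClasses.tv (Pi.single x (1 : F)) (Pi.single y 1)) = _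
      rw [GeomClasses.tv_val hdot]⟩
  refine hF.not_rootsOn hm hSL t.succ_pos (S := Finset.univ.erase i) (by simp; omega)
    (hF.rootsOn_of_one hm (fun _ => Pi.single u 1) (fun _ => Pi.single v 1)
      (fun j _ => by simp [single_dotProduct, huv, Pi.single_eq_zero_iff]) ?_)
  rw [← in_ms_rx (i := i), map_add, map_one, pS, rx_pm]
  rw [kronecker_add, one_kronecker_one] at hmem
  convert hmem using 2
  congr 1
  · simp
  · ext a b
    simp only [pm, Fin.removeNth, Finset.mem_erase, Fin.succAbove_ne, ne_eq, not_false_iff, Finset.mem_univ, and_self,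
      if_true, Matrix.vecMulVec_apply, Finset.prod_mul_distrib]
    rw [← tp_single x, ← tp_single y]
    rfl

/-- A single factor: everything is monomial. -/
theorem isMonomial_of_one (g : GL (Idx m 1) F) : IsMonomial g := by
  refine ⟨1, fun _ => Cfsg.Geo.glReindex (F := F) (Equiv.funUnique (Fin 1) (Fin m)) g, fun xs => ?_⟩
  funext a
  simp only [tp, Matrix.mulVec, dotProduct, Fin.prod_univ_one, Equiv.Perm.coe_one, id_eq]
  rw [← Equiv.sum_comp (Equiv.funUnique (Fin 1) (Fin m)).symm]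
  refine Finset.sum_congr rfl fun b _ => ?_
  simp [Cfsg.Geo.glReindex]
  left
  rw [show (uniqueElim (a 0) : Idx m 1) = a from funext fun l => by rw [Subsingleton.elim l 0]; rfl]

/-- What is to be proved for `t` factors. -/
def Rigidity (F : Type*) [Field F] (m t : ℕ) : Prop :=
  ∀ M : Subgroup (GL (Idx m t) F), Full M → ¬ Cfsg.Geo.specialLinear (Idx m t) F ≤ M →
    ∀ g, ConjIn M g → IsMonomial g

/-- What conjugates the root elements into the group and maps a root kernel to a root kernel is monomial. -/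
theorem isMonomial_of_maps (hm : 3 ≤ m) (ht : 1 ≤ t) (IH : Rigidity F m t)
    {M : Subgroup (GL (Idx m (t + 1)) F)} (hF : Full M)
    (hSL : ¬ Cfsg.Geo.specialLinear (Idx m (t + 1)) F ≤ M) {g : GL (Idx m (t + 1)) F} (hg : ConjIn M g)
    {i j : Fin (t + 1)} {a φ b ψ : Fin m → F} (ha : a ≠ 0) (hφ : φ ≠ 0) (hb : b ≠ 0) (hψ : ψ ≠ 0)
    (hmap : ∀ v, slot j (vecMulVec b ψ) *ᵥ v = 0 →
      slot i (vecMulVec a φ) *ᵥ ((g : Matrix (Idx m (t + 1)) (Idx m (t + 1)) F) *ᵥ v) = 0) : IsMonomial g := by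
  classical
  haveI : NeZero m := ⟨by omega⟩
  obtain ⟨A, hA⟩ := exists_vecMul_eq hφ hψ
  obtain ⟨h, hh⟩ := exists_monomial (F := F) (m := m) (Equiv.swap i j) (Function.update 1 j A)
  have hhm : IsMonomial h := ⟨_, _, hh⟩
  suffices hgh : IsMonomial (g * h) by simpa using isMonomial_mul hgh (isMonomial_inv hhm)
  set g' := g * h with hg'def
  have hg' : ConjIn M g' := hg.mul_monomial hhm
  have hstab : ∀ v, slot i (vecMulVec a φ) *ᵥ v = 0 →
      slot i (vecMulVec a φ) *ᵥ ((g' : Matrix (Idx m (t + 1)) (Idx m (t + 1)) F) *ᵥ v) = 0 := by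
    intro v hv
    rw [hg'def, Units.val_mul, ← Matrix.mulVec_mulVec]
    refine hmap _ ?_
    have h1 := Mon.slot_comm' hh j (vecMulVec a φ)
    rw [Equiv.swap_apply_right, Function.update_self, conj_vecMulVec] at h1
    have e : φ ᵥ* ((A⁻¹ : GL (Fin m) F) : Matrix (Fin m) (Fin m) F) = ψ := by
      rw [← hA, vecMul_vecMul, Units.mul_inv, vecMul_one]
    rw [e] at h1
    have h2 := congrArg (· *ᵥ v) h1
    simp only [← Matrix.mulVec_mulVec, hv, Matrix.mulVec_zero] at h2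
    rw [slot_mulVec_eq_zero hb]
    rw [← slot_mulVec_eq_zero (GeomClasses.gl_mulVec_ne_zero A ha)]
    exact h2.symm
  set gs := Cfsg.Geo.glReindex (F := F) (split i) g' with hgs
  have hgsv : (gs : Matrix _ _ F) = rx i (g' : Matrix (Idx m (t + 1)) (Idx m (t + 1)) F) := rfl
  have hgsi : ((gs⁻¹ : GL (Fin m × Idx m t) F) : Matrix _ _ F) =
      rx i ((g'⁻¹ : GL (Idx m (t + 1)) F) : Matrix (Idx m (t + 1)) (Idx m (t + 1)) F) := rfl
  have hroot : ∀ a φ : Fin m → F, φ ⬝ᵥ a = 0 → In (Ms i M) (1 + (gs : Matrix _ _ F) * nm a φ 1 *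
      ((gs⁻¹ : GL (Fin m × Idx m t) F) : Matrix _ _ F)) := fun a φ h => by
    have h1 := in_ms_rx (i := i).2 (hg' i a φ h)
    rwa [map_add, map_one, map_mul, map_mul, rx_slot_same, ← hgsv, ← hgsi] at h1
  obtain ⟨B, τ, hBτ⟩ := kernel_stab hm (hF.hasRoots i) (hF.onlyScalar hm hSL i) hroot hφ (fun z hz => by
    obtain ⟨v, rfl⟩ := (tvec i).surjective z
    rw [hgsv, rx_mulVec_tvec, ← slot_mulVec_eq_zero ha]
    exact hstab v ((slot_mulVec_eq_zero ha v).2 hz))
  have hdet : B.det ^ Fintype.card (Idx m t) * τ.det ^ Fintype.card (Fin m) ≠ 0 := by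
    rw [← Matrix.det_kronecker, ← hBτ]
    exact ((Matrix.isUnit_iff_isUnit_det _).1 ⟨gs, rfl⟩).ne_zero
  have hB : B.det ≠ 0 := fun h0 => hdet (by rw [h0, zero_pow Fintype.card_ne_zero, zero_mul])
  have hτ : τ.det ≠ 0 := fun h0 => hdet (by rw [h0, zero_pow Fintype.card_ne_zero, mul_zero])
  let Bu : GL (Fin m) F := GeneralLinearGroup.mkOfDetNeZero B hB
  let τu : GL (Idx m t) F := GeneralLinearGroup.mkOfDetNeZero τ hτ
  have hinv : ((gs⁻¹ : GL (Fin m × Idx m t) F) : Matrix _ _ F) =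
      ((Bu⁻¹ : GL (Fin m) F) : Matrix (Fin m) (Fin m) F) ⊗ₖ Units.val (τu⁻¹ : GL (Idx m t) F) := by
    refine Units.inv_eq_of_mul_eq_one_right ?_
    rw [hBτ, ← Matrix.mul_kronecker_mul, show B = (Bu : Matrix (Fin m) (Fin m) F) from rfl,
      show τ = (τu : Matrix (Idx m t) (Idx m t) F) from rfl, Units.mul_inv, Units.mul_inv, one_kronecker_one]
  have hτm : IsMonomial τu := by
    rcases eq_or_lt_of_le ht with rfl | ht2
    · exact isMonomial_of_one τu
    refine IH (Gam i M) (hF.gam hm i) (hF.gam_proper hm ht2 hSL i) τu fun l c χ hc => in_gam hm ?_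
    have h1 := in_ms_rx (i := i).2 (hg' (i.succAbove l) c χ hc)
    rw [map_add, map_one, map_mul, map_mul, rx_slot_succAbove, ← hgsv, ← hgsi, hinv, hBτ, ← Matrix.mul_kronecker_mul,
      ← Matrix.mul_kronecker_mul, Matrix.mul_one, show B = (Bu : Matrix (Fin m) (Fin m) F) from rfl, Units.mul_inv,
      ← one_kronecker_one, ← kronecker_add] at h1
    exact h1
  obtain ⟨σ, as, hσ⟩ := hτm
  let σ' : Equiv.Perm (Fin (t + 1)) := ((finSuccEquiv' i).trans σ.optionCongr).trans (finSuccEquiv' i).symm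
  have hσi : σ' i = i := by simp [σ', finSuccEquiv'_at]
  have hσs : ∀ l, σ' (i.succAbove l) = i.succAbove (σ l) := fun l => by simp [σ']
  refine ⟨σ', i.insertNth Bu as, fun xs => (tvec i).injective ?_⟩
  rw [← rx_mulVec_tvec, ← hgsv, hBτ, tvec_tp, tvec_tp, kronecker_mulVec_pl]
  congr 1
  · congr 1
    simp [hσi, Bu]
  · rw [show τ = (τu : Matrix (Idx m t) (Idx m t) F) from rfl, hσ]
    congr 1
    funext l
    simp [Fin.removeNth, hσs]

section finite

variable [Finite F]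

theorem slot_root_sq {i : Fin t} {a φ : Fin m → F} (h : φ ⬝ᵥ a = 0) :
    slot i (vecMulVec a φ) * slot i (vecMulVec a φ) = 0 := by
  rw [slot_mul, vecMulVec_mul_vecMulVec, h, zero_smul, vecMulVec_zero, map_zero]

theorem rank_root {i : Fin (t + 1)} {a φ : Fin m → F} (ha : a ≠ 0) (hφ : φ ≠ 0) :
    (slot i (vecMulVec a φ) : Matrix (Idx m (t + 1)) (Idx m (t + 1)) F).rank = m ^ t := by
  rw [← rank_rx i, rx_slot_same]
  refine le_antisymm ?_ ?_
  · rw [Matrix.rank]
    refine (Submodule.finrank_mono (show _ ≤ LinearMap.range (pl (μ := Idx m t) a) from ?_)).trans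
      ((LinearMap.finrank_range_le _).trans (by simp))
    rintro _ ⟨v, rfl⟩
    exact ⟨ct φ v, by
      rw [Matrix.mulVecLin_apply, show vecMulVec a φ ⊗ₖ (1 : Matrix (Idx m t) (Idx m t) F) = nm a φ 1 from rfl,
        nm_mulVec, Matrix.one_mulVec]⟩
  · refine le_trans ?_ (rank_kronecker_ge _ _)
    rw [Matrix.rank_one]
    have h0 : vecMulVec a φ ≠ 0 := by
      obtain ⟨i, hi⟩ := Function.ne_iff.1 ha
      obtain ⟨j, hj⟩ := Function.ne_iff.1 hφ
      intro h
      exact mul_ne_zero hi hj (congrFun (congrFun h i) j)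
    calc m ^ t = 1 * Fintype.card (Idx m t) := by simp
      _ ≤ _ := Nat.mul_le_mul_right _ (rank_pos h0)

theorem rank_conj {ι : Type} [Fintype ι] [DecidableEq ι] (g : GL ι F) (X : Matrix ι ι F) :
    ((g : Matrix ι ι F) * X * ((g⁻¹ : GL ι F) : Matrix ι ι F)).rank = X.rank := by
  refine le_antisymm ((Matrix.rank_mul_le_left _ _).trans (Matrix.rank_mul_le_right _ _)) ?_
  set Y := (g : Matrix ι ι F) * X * ((g⁻¹ : GL ι F) : Matrix ι ι F)
  have e : X = ((g⁻¹ : GL ι F) : Matrix ι ι F) * Y * (g : Matrix ι ι F) := by simp [Y, mul_assoc]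
  rw [e]
  exact (Matrix.rank_mul_le_left _ _).trans (Matrix.rank_mul_le_right _ _)

/-- A non-monomial element conjugates some root element to a non-monomial element. -/
theorem exists_not_isMonomial (hm : 3 ≤ m) (ht : 1 ≤ t) (IH : Rigidity F m t)
    {M : Subgroup (GL (Idx m (t + 1)) F)} (hF : Full M)
    (hSL : ¬ Cfsg.Geo.specialLinear (Idx m (t + 1)) F ≤ M) {g : GL (Idx m (t + 1)) F} (hg : ConjIn M g)
    (hng : ¬ IsMonomial g) (i : Fin (t + 1)) {a : Fin m → F} (ha : a ≠ 0) :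
    ∃ φ : Fin m → F, φ ≠ 0 ∧ φ ⬝ᵥ a = 0 ∧ ∃ z ∈ M, (z : Matrix _ _ F) =
      1 + (g : Matrix _ _ F) * slot i (vecMulVec a φ) * ((g⁻¹ : GL (Idx m (t + 1)) F) : Matrix _ _ F) ∧
        ¬ IsMonomial z := by
  classical
  by_contra hcon
  push Not at hcon
  set G := (g : Matrix (Idx m (t + 1)) (Idx m (t + 1)) F)
  set G' := ((g⁻¹ : GL (Idx m (t + 1)) F) : Matrix (Idx m (t + 1)) (Idx m (t + 1)) F)
  have hswap : ∀ φ : Fin m → F, φ ≠ 0 → φ ⬝ᵥ a = 0 → ∀ σ as, Mon (1 + G * slot i (vecMulVec a φ) * G') σ as →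
      σ.IsSwap := by
    intro φ hφ haφ σ as hmon
    rcases hmon.classify hm (by
        rw [add_sub_cancel_left, show G * slot i (vecMulVec a φ) * G' * (G * slot i (vecMulVec a φ) * G') =
          G * (slot i (vecMulVec a φ) * (G' * G) * slot i (vecMulVec a φ)) * G' by simp only [mul_assoc],
          show G' * G = 1 from Units.inv_mul g, mul_one, slot_root_sq haφ, mul_zero, zero_mul])
        (by rw [add_sub_cancel_left, rank_conj, rank_root ha hφ]) with ⟨j, b, ψ, hb, hψ, -, he⟩ | h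
    · refine absurd (isMonomial_of_maps (i := j) (j := i) hm ht IH hF hSL hg hb hψ ha hφ fun v hv => ?_) hng
      rw [← add_left_cancel he, ← Matrix.mulVec_mulVec, Matrix.mulVec_mulVec _ G' G,
        show G' * G = 1 from Units.inv_mul g, Matrix.one_mulVec, ← Matrix.mulVec_mulVec, hv, Matrix.mulVec_zero]
    · exact h
  have hmono : ∀ φ : Fin m → F, φ ≠ 0 → φ ⬝ᵥ a = 0 → ∃ σ as, Mon (1 + G * slot i (vecMulVec a φ) * G') σ as := by
    intro φ hφ haφ
    obtain ⟨z, hz, hzX⟩ := hg i a φ haφ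
    obtain ⟨σ, as, h⟩ := hcon φ hφ haφ z hz hzX
    exact ⟨σ, as, hzX ▸ h⟩
  obtain ⟨φ₁, hφ₁, hφ₁a, -⟩ := exists_perp_perp hm a a
  obtain ⟨φ₂, hφ₂a, hind⟩ := exists_perp_indep hm a φ₁
  have hφ₂ : φ₂ ≠ 0 := fun h => hind 0 (by rw [h, zero_smul])
  have hφ₃ : φ₁ + φ₂ ≠ 0 := fun h => hind (-1) (by rw [neg_one_smul]; exact eq_neg_of_add_eq_zero_right h)
  have hφ₃a : (φ₁ + φ₂) ⬝ᵥ a = 0 := by rw [add_dotProduct, hφ₁a, hφ₂a, add_zero]
  obtain ⟨σ₁, as₁, h₁⟩ := hmono φ₁ hφ₁ hφ₁a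
  obtain ⟨σ₂, as₂, h₂⟩ := hmono φ₂ hφ₂ hφ₂a
  have hprod : (1 + G * slot i (vecMulVec a φ₁) * G') * (1 + G * slot i (vecMulVec a φ₂) * G') =
      1 + G * slot i (vecMulVec a (φ₁ + φ₂)) * G' := by
    have h0 : G * slot i (vecMulVec a φ₁) * G' * (G * slot i (vecMulVec a φ₂) * G') = 0 := by
      rw [show G * slot i (vecMulVec a φ₁) * G' * (G * slot i (vecMulVec a φ₂) * G') =
          G * (slot i (vecMulVec a φ₁) * (G' * G) * slot i (vecMulVec a φ₂)) * G' by simp only [mul_assoc],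
        show G' * G = 1 from Units.inv_mul g, mul_one, slot_mul, vecMulVec_mul_vecMulVec, hφ₁a, zero_smul,
        vecMulVec_zero, map_zero, mul_zero, zero_mul]
    rw [add_mul, one_mul, mul_add, mul_one, h0, add_zero, vecMulVec_add, map_add, mul_add, add_mul]
    abel
  have h₃ := h₁.mul h₂
  rw [hprod] at h₃
  have s1 := (hswap φ₁ hφ₁ hφ₁a _ _ h₁).sign_eq
  have s2 := (hswap φ₂ hφ₂ hφ₂a _ _ h₂).sign_eq
  have s3 := (hswap _ hφ₃ hφ₃a _ _ h₃).sign_eq
  rw [Equiv.Perm.sign_mul, s1, s2] at s3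
  exact absurd s3 (by decide)

/-! ### Subgroups fixing vectors -/

/-- The pointwise stabiliser of a subspace. -/
def fixer {ι : Type} [Fintype ι] [DecidableEq ι] (W : Submodule F (ι → F)) : Subgroup (GL ι F) where
  carrier := {g | ∀ v ∈ W, (g : Matrix ι ι F) *ᵥ v = v}
  one_mem' v _ := by simp
  mul_mem' {g h} hg hh v hv := by rw [GeomClasses.gl_mul_mulVec, hh v hv, hg v hv]
  inv_mem' {g} hg v hv := by
    conv_lhs => rw [← hg v hv]
    exact GeomClasses.gl_inv_mulVec_mulVec g v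

/-- The root elements with a fixed functional and vectors in a subspace. -/
def rootLine {μ : Type} [Fintype μ] [DecidableEq μ] (φ : Fin m → F) (W : Submodule F (Fin m → F))
    (hW : ∀ w ∈ W, φ ⬝ᵥ w = 0) : Subgroup (GL (Fin m × μ) F) where
  carrier := {g | ∃ w ∈ W, (g : Matrix (Fin m × μ) (Fin m × μ) F) = 1 + nm w φ 1}
  one_mem' := ⟨0, zero_mem _, by simp [nm]⟩
  mul_mem' := by
    rintro g h ⟨v, hv, hg⟩ ⟨w, hw, hh⟩
    refine ⟨v + w, add_mem hv hw, ?_⟩
    rw [Units.val_mul, hg, hh, add_mul, one_mul, mul_add, mul_one, nm_mul, hW w hw, zero_smul, add_zero, nm_add_left]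
    abel
  inv_mem' := by
    rintro g ⟨v, hv, hg⟩
    refine ⟨-v, neg_mem hv, Units.inv_eq_of_mul_eq_one_right ?_⟩
    rw [hg, add_mul, one_mul, mul_add, mul_one, nm_mul, hW _ (neg_mem hv), zero_smul, add_zero]
    have : nm (-v) φ (1 : Matrix μ μ F) = -nm v φ 1 := by
      rw [← neg_one_smul F v, ← nm_smul, nm, kronecker_smul, neg_one_smul, nm]
    rw [this]
    abel

/-- The kernel of a matrix. -/
abbrev KK {ι : Type} [Fintype ι] (X : Matrix ι ι F) : Submodule F (ι → F) := LinearMap.ker X.mulVecLin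

theorem mem_KK {ι : Type} [Fintype ι] {X : Matrix ι ι F} {v : ι → F} : v ∈ KK X ↔ X *ᵥ v = 0 :=
  LinearMap.mem_ker

theorem finrank_KK_rx (i : Fin (t + 1)) (X Y : Matrix (Idx m (t + 1)) (Idx m (t + 1)) F) :
    finrank F ↥(KK (rx i X) ⊓ KK (rx i Y)) = finrank F ↥(KK X ⊓ KK Y) := by
  have e : KK (rx i X) ⊓ KK (rx i Y) = (KK X ⊓ KK Y).map (tvec (F := F) (m := m) i).toLinearMap := by
    ext z
    obtain ⟨v, rfl⟩ := (tvec i).surjective z
    simp only [Submodule.mem_inf, mem_KK, rx_mulVec_tvec, LinearEquiv.map_eq_zero_iff]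
    rw [Submodule.mem_map_equiv, LinearEquiv.symm_apply_apply, Submodule.mem_inf, mem_KK, mem_KK]
  rw [e]
  exact LinearEquiv.finrank_map_eq (tvec i) _

theorem finrank_KK_conj {ι : Type} [Fintype ι] [DecidableEq ι] (g : GL ι F) (X Y : Matrix ι ι F) :
    finrank F ↥(KK ((g : Matrix ι ι F) * X * ((g⁻¹ : GL ι F) : Matrix ι ι F)) ⊓
      KK ((g : Matrix ι ι F) * Y * ((g⁻¹ : GL ι F) : Matrix ι ι F))) = finrank F ↥(KK X ⊓ KK Y) := by
  have e : KK ((g : Matrix ι ι F) * X * ((g⁻¹ : GL ι F) : Matrix ι ι F)) ⊓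
      KK ((g : Matrix ι ι F) * Y * ((g⁻¹ : GL ι F) : Matrix ι ι F)) = (KK X ⊓ KK Y).map (g : Matrix ι ι F).mulVecLin := by
    ext z
    simp only [Submodule.mem_inf, mem_KK, Submodule.mem_map, Matrix.mulVecLin_apply, ← Matrix.mulVec_mulVec]
    constructor
    · rintro ⟨h1, h2⟩
      refine ⟨((g⁻¹ : GL ι F) : Matrix ι ι F) *ᵥ z, ⟨?_, ?_⟩, GeomClasses.gl_mulVec_inv_mulVec g z⟩
      · exact GeomClasses.gl_mulVec_injective g (by simpa using h1)
      · exact GeomClasses.gl_mulVec_injective g (by simpa using h2)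
    · rintro ⟨v, ⟨h1, h2⟩, rfl⟩
      simp [h1, h2]
  rw [e]
  exact (Submodule.equivMapOfInjective _ (GeomClasses.gl_mulVec_injective g) _).finrank_eq.symm

/-- Vectors sent into a subspace: a lower bound for the dimension. -/
theorem finrank_le_inf_comap {V : Type*} [AddCommGroup V] [Module F V] [FiniteDimensional F V] (f : V →ₗ[F] V)
    (W L : Submodule F V) (hfL : LinearMap.range f ≤ L) :
    finrank F W + finrank F ↥(W ⊓ L) ≤ finrank F ↥(W ⊓ W.comap f) + finrank F L := by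
  let h := (W.mkQ ∘ₗ f).domRestrict W
  let h' := W.mkQ.domRestrict L
  have e1 := LinearMap.finrank_range_add_finrank_ker h
  have e2 := LinearMap.finrank_range_add_finrank_ker h'
  have hr : LinearMap.range h ≤ LinearMap.range h' := by
    rintro _ ⟨v, rfl⟩
    exact ⟨⟨f v, hfL ⟨v, rfl⟩⟩, rfl⟩
  have hk : (LinearMap.ker h).map W.subtype = W ⊓ W.comap f := by
    ext v
    simp [h, Submodule.mem_map, Submodule.Quotient.mk_eq_zero, and_comm]
  have hk' : (LinearMap.ker h').map L.subtype = W ⊓ L := by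
    ext v
    simp [h', Submodule.mem_map, Submodule.Quotient.mk_eq_zero, and_comm]
  have h3 := Submodule.finrank_mono hr
  have h4 := Submodule.finrank_map_subtype_eq W (LinearMap.ker h)
  have h5 := Submodule.finrank_map_subtype_eq L (LinearMap.ker h')
  rw [hk] at h4
  rw [hk'] at h5
  omega

/-! ### The theorem -/

set_option maxHeartbeats 800000 in
/-- The group itself is monomial. -/
theorem forall_mem_isMonomial (hm : 3 ≤ m) (ht : 1 ≤ t) (IH : Rigidity F m t)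
    {M : Subgroup (GL (Idx m (t + 1)) F)} (hF : Full M)
    (hSL : ¬ Cfsg.Geo.specialLinear (Idx m (t + 1)) F ≤ M) : ∀ g ∈ M, IsMonomial g := by
  classical
  haveI : NeZero m := ⟨by omega⟩
  by_contra hcon
  push Not at hcon
  obtain ⟨g₀, hg₀, hng₀⟩ := hcon
  -- the largest meeting of a root kernel and a moved root kernel
  let P : ℕ → Prop := fun d => ∃ g ∈ M, ¬ IsMonomial g ∧ ∃ (i j : Fin (t + 1)) (a φ b ψ : Fin m → F),
    a ≠ 0 ∧ φ ≠ 0 ∧ φ ⬝ᵥ a = 0 ∧ b ≠ 0 ∧ ψ ≠ 0 ∧ ψ ⬝ᵥ b = 0 ∧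
    finrank F ↥(KK (slot i (vecMulVec a φ)) ⊓ KK ((g : Matrix _ _ F) * slot j (vecMulVec b ψ) *
      ((g⁻¹ : GL (Idx m (t + 1)) F) : Matrix _ _ F))) = d
  have hbound : ∀ d, P d → d ≤ finrank F (Idx m (t + 1) → F) := by
    rintro d ⟨g, -, -, i, j, a, φ, b, ψ, -, -, -, -, -, -, rfl⟩
    exact Submodule.finrank_le _
  obtain ⟨u, v, -, huv, -, -⟩ := exists_triple hm
  have hex : ∃ d, P d := ⟨_, g₀, hg₀, hng₀, 0, 0, Pi.single u 1, Pi.single v 1, Pi.single u 1, Pi.single v 1,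
    by simp, by simp, by simp [single_dotProduct, huv], by simp, by simp, by simp [single_dotProduct, huv], rfl⟩
  obtain ⟨d, hPd, hmax⟩ : ∃ d, P d ∧ ∀ d', P d' → d' ≤ d :=
    ⟨Nat.findGreatest P (finrank F (Idx m (t + 1) → F)), Nat.findGreatest_spec (hbound _ hex.choose_spec) hex.choose_spec,
      fun d' hd' => Nat.le_findGreatest (hbound d' hd') hd'⟩
  obtain ⟨g, hgM, hng, i, j, a₀, φ, b, ψ, ha₀, hφ, ha₀φ, hb, hψ, hbψ, hd⟩ := hPd
  set M' := Ms i M with hM'
  have hR := hF.hasRoots i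
  have hs := hF.onlyScalar hm hSL i
  set Y := (g : Matrix (Idx m (t + 1)) (Idx m (t + 1)) F) * slot j (vecMulVec b ψ) *
    ((g⁻¹ : GL (Idx m (t + 1)) F) : Matrix _ _ F) with hY
  have hK : KK (rx i (slot i (vecMulVec a₀ φ))) = kK φ := by
    ext z
    obtain ⟨w, rfl⟩ := (tvec i).surjective z
    rw [mem_KK, mem_kK, rx_mulVec_tvec, LinearEquiv.map_eq_zero_iff, slot_mulVec_eq_zero ha₀]
  set Fp := KK (rx i Y) with hFp
  set D := (kK φ : Submodule F (Fin m × Idx m t → F)) ⊓ Fp with hDdef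
  have hdD : finrank F D = d := by rw [hDdef, ← hK, finrank_KK_rx, hd]
  have hn : finrank F (Fin m × Idx m t → F) = m * m ^ t := by simp
  have hdimK : finrank F (kK φ : Submodule F (Fin m × Idx m t → F)) + m ^ t = m * m ^ t := by
    have h1 := LinearMap.finrank_range_add_finrank_ker (rx i (slot i (vecMulVec a₀ φ))).mulVecLin
    have h2 : (rx i (slot i (vecMulVec a₀ φ))).rank = m ^ t := by rw [rank_rx, rank_root ha₀ hφ]
    rw [Matrix.rank] at h2
    rw [h2, hn] at h1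
    rw [← hK, ← h1, add_comm]
  have hdimF : finrank F Fp + m ^ t = m * m ^ t := by
    have h1 := LinearMap.finrank_range_add_finrank_ker (rx i Y).mulVecLin
    have h2 : (rx i Y).rank = m ^ t := by rw [rank_rx, hY, rank_conj, rank_root hb hψ]
    rw [Matrix.rank] at h2
    rw [h2, hn] at h1
    rw [hFp, ← h1, add_comm]
  -- the moved kernel meets each axis in a small space
  have hT : ∀ a, a ≠ 0 → φ ⬝ᵥ a = 0 →
      finrank F ↥(Fp ⊓ LinearMap.range (pl (μ := Idx m t) a)) + m * m ^ t ≤ d + 2 * m ^ t := by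
    intro a ha haφ
    obtain ⟨φ₂, hφ₂, hφ₂a, z, hz, hzX, hnz⟩ := exists_not_isMonomial hm ht IH hF hSL
      (ConjIn.of_mem hF (M.inv_mem hgM)) (fun h => hng (by simpa using isMonomial_inv h)) i ha
    set x := g * z * g⁻¹ with hxdef
    have hxX : (x : Matrix (Idx m (t + 1)) (Idx m (t + 1)) F) = 1 + slot i (vecMulVec a φ₂) := by
      rw [hxdef, Units.val_mul, Units.val_mul, hzX, inv_inv, mul_add, mul_one, add_mul, Units.mul_inv]
      simp [mul_assoc]
    have hb1 : finrank F ↥(KK Y ⊓ KK ((x : Matrix _ _ F) * Y * ((x⁻¹ : GL (Idx m (t + 1)) F) : Matrix _ _ F))) ≤ d := by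
      have e : (x : Matrix _ _ F) * Y * ((x⁻¹ : GL (Idx m (t + 1)) F) : Matrix _ _ F) =
          (g : Matrix _ _ F) * ((z : Matrix _ _ F) * slot j (vecMulVec b ψ) * ((z⁻¹ : GL (Idx m (t + 1)) F) : Matrix _ _ F)) *
            ((g⁻¹ : GL (Idx m (t + 1)) F) : Matrix _ _ F) := by
        simp [hxdef, hY, mul_assoc]
      rw [e, hY, finrank_KK_conj]
      exact hmax _ ⟨z, hz, hnz, j, j, b, ψ, b, ψ, hb, hψ, hbψ, hb, hψ, hbψ, rfl⟩
    rw [← finrank_KK_rx i] at hb1
    let f : (Fin m × Idx m t → F) →ₗ[F] (Fin m × Idx m t → F) := (rx i (slot i (vecMulVec a φ₂))).mulVecLin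
    have hfv : ∀ w, f w = pl a (ct φ₂ w) := fun w => by
      simp only [f, Matrix.mulVecLin_apply, rx_slot_same]
      rw [show vecMulVec a φ₂ ⊗ₖ (1 : Matrix (Idx m t) (Idx m t) F) = nm a φ₂ 1 from rfl, nm_mulVec, Matrix.one_mulVec]
    have hS := finrank_le_inf_comap f Fp (LinearMap.range (pl (μ := Idx m t) a))
      (fun w ⟨w', hw⟩ => ⟨ct φ₂ w', by rw [← hw, hfv]⟩)
    have hL : finrank F (LinearMap.range (pl (F := F) (μ := Idx m t) a)) = m ^ t := by
      rw [LinearMap.finrank_range_of_inj (LinearMap.ker_eq_bot.1 (LinearMap.ker_eq_bot'.2 fun w h => pl_eq_zero ha h))]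
      simp
    have hsub : (Fp ⊓ Fp.comap f).map (rx i (x : Matrix (Idx m (t + 1)) (Idx m (t + 1)) F)).mulVecLin ≤
        KK (rx i Y) ⊓ KK (rx i ((x : Matrix _ _ F) * Y * ((x⁻¹ : GL (Idx m (t + 1)) F) : Matrix _ _ F))) := by
      rintro _ ⟨w, ⟨hw1, hw2⟩, rfl⟩
      have hxw : rx i (x : Matrix (Idx m (t + 1)) (Idx m (t + 1)) F) *ᵥ w = w + f w := by
        rw [hxX, map_add, map_one, Matrix.add_mulVec, Matrix.one_mulVec]; rfl
      simp only [Matrix.mulVecLin_apply]
      refine ⟨?_, ?_⟩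
      · rw [hxw]; exact add_mem hw1 hw2
      · show _ ∈ KK _
        rw [mem_KK, Matrix.mulVec_mulVec, ← map_mul, mul_assoc, Units.inv_mul, mul_one, map_mul,
          ← Matrix.mulVec_mulVec, mem_KK.1 hw1, Matrix.mulVec_zero]
    have hinj : Function.Injective (rx i (x : Matrix (Idx m (t + 1)) (Idx m (t + 1)) F)).mulVecLin :=
      GeomClasses.gl_mulVec_injective (Cfsg.Geo.glReindex (F := F) (split i) x)
    have h1 := Submodule.finrank_mono hsub
    rw [← (Submodule.equivMapOfInjective _ hinj _).finrank_eq] at h1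
    rw [hL] at hS
    omega
  have hsup : ∀ a, a ≠ 0 → φ ⬝ᵥ a = 0 → kK φ ≤ D ⊔ LinearMap.range (pl (μ := Idx m t) a) := by
    intro a ha haφ
    have h1 := hT a ha haφ
    have h2 := Submodule.finrank_sup_add_finrank_inf_eq D (LinearMap.range (pl (μ := Idx m t) a))
    have h3 : finrank F ↥(D ⊓ LinearMap.range (pl (μ := Idx m t) a)) ≤
        finrank F ↥(Fp ⊓ LinearMap.range (pl (μ := Idx m t) a)) :=
      Submodule.finrank_mono (inf_le_inf_right _ inf_le_right)
    have hL : finrank F (LinearMap.range (pl (F := F) (μ := Idx m t) a)) = m ^ t := by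
      rw [LinearMap.finrank_range_of_inj (LinearMap.ker_eq_bot.1 (LinearMap.ker_eq_bot'.2 fun w h => pl_eq_zero ha h))]
      simp
    have hle : D ⊔ LinearMap.range (pl (μ := Idx m t) a) ≤ kK φ := sup_le inf_le_left (by
      rintro _ ⟨w, rfl⟩
      exact mem_kK.2 (by rw [ct_pl, haφ, zero_smul]))
    refine (Submodule.eq_of_le_of_finrank_le hle ?_).ge
    omega
  -- the Frobenius group
  set G := M' ⊓ fixer D with hGdef
  set S := M' ⊓ fixer (kK φ : Submodule F (Fin m × Idx m t → F)) with hSdef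
  have hstab : ∀ s ∈ G, (∀ w : Fin m × Idx m t → F, ct φ w = 0 → ct φ ((s : Matrix (Fin m × Idx m t) (Fin m × Idx m t) F) *ᵥ w) = 0) → s ∈ S := by
    intro s hsG hsK
    obtain ⟨A, τ, hAτ⟩ := kernel_stab hm hR hs (fun c χ h => In.conj hsG.1 (hR c χ h)) hφ hsK
    refine ⟨hsG.1, fun w hw => ?_⟩
    have hodd : m = 3 → Odd (Fintype.card (Idx m t)) := fun h3 => by
      subst h3
      simp only [Fintype.card_fun, Fintype.card_fin]
      exact Odd.pow (by decide)
    rw [hAτ]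
    refine rigid hm hodd (fun c hc => ?_) (fun w hw => by rw [← hAτ]; exact hsG.2 w hw) hsup w (mem_kK.1 hw)
    by_contra hne
    obtain ⟨x₀⟩ : Nonempty (Idx m t) := inferInstance
    have h0 : ∀ u : Idx m t → F, τ *ᵥ u = 0 := fun u => by
      have h1 := hsK (pl c u) (by rw [ct_pl, hc, zero_smul])
      rw [hAτ, kronecker_mulVec_pl, ct_pl, smul_eq_zero] at h1
      exact h1.resolve_left hne
    have hw0 : (s : Matrix (Fin m × Idx m t) (Fin m × Idx m t) F) *ᵥ pl c (Pi.single x₀ 1) = 0 := by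
      rw [hAτ, kronecker_mulVec_pl, h0, map_zero]
    have hc0 : c ≠ 0 := fun h => hne (by rw [h, Matrix.mulVec_zero, dotProduct_zero])
    have h2 := pl_eq_zero hc0 (GeomClasses.gl_mulVec_injective s (by simpa using hw0))
    simpa using congrFun h2 x₀
  have hfix : ∀ s ∈ S, s ≠ 1 → ∀ w, (s : Matrix (Fin m × Idx m t) (Fin m × Idx m t) F) *ᵥ w = w → ct φ w = 0 := by
    intro s hsS hs1 w hw
    obtain ⟨A, τ, hAτ⟩ := kernel_stab hm hR hs (fun c χ h => In.conj hsS.1 (hR c χ h)) hφ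
      (fun z hz => by rw [hsS.2 z (mem_kK.2 hz)]; exact hz)
    have hfixK : ∀ c u, φ ⬝ᵥ c = 0 → pl (A *ᵥ c) (τ *ᵥ u) = pl c u := fun c u hc => by
      rw [← kronecker_mulVec_pl, ← hAτ]
      exact hsS.2 _ (mem_kK.2 (by rw [ct_pl, hc, zero_smul]))
    obtain ⟨θ, hθ⟩ := exists_dot_eq_one ha₀
    have hτ : ∀ u, (θ ⬝ᵥ (A *ᵥ a₀)) • (τ *ᵥ u) = u := fun u => by
      have h1 := congrArg (ct θ) (hfixK a₀ u ha₀φ)
      rwa [ct_pl, ct_pl, hθ, one_smul] at h1
    set e := θ ⬝ᵥ (A *ᵥ a₀)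
    have he : e ≠ 0 := fun h0 => by
      have := congrFun (hτ (Pi.single (0 : Idx m t) 1)) 0
      simp [h0] at this
    have hτe : τ = e⁻¹ • 1 := Matrix.ext_of_mulVec_single fun x => by
      rw [Matrix.smul_mulVec, Matrix.one_mulVec]
      conv_rhs => rw [← hτ (Pi.single x 1)]
      rw [smul_smul, inv_mul_cancel₀ he, one_smul]
    obtain ⟨b', hb'⟩ := exists_dot_eq_one' hφ
    set A' := e⁻¹ • A with hA'
    have hA'fix : ∀ c, φ ⬝ᵥ c = 0 → A' *ᵥ c = c := by
      intro c hc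
      funext k
      have h1 := congrFun (hfixK c (Pi.single (0 : Idx m t) 1) hc) (k, 0)
      simp only [pl, LinearMap.coe_mk, AddHom.coe_mk, hτe, Matrix.smul_mulVec, Matrix.one_mulVec, Pi.smul_apply,
        Pi.single_eq_same, smul_eq_mul, mul_one] at h1
      rw [hA', Matrix.smul_mulVec, Pi.smul_apply, smul_eq_mul, mul_comm, h1]
    set c := A' *ᵥ b' - b'
    have hAe : A' = 1 + vecMulVec c φ := Matrix.ext_of_mulVec_single fun k => by
      set y : Fin m → F := Pi.single k 1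
      have h1 := hA'fix (y - (φ ⬝ᵥ y) • b') (by rw [dotProduct_sub, dotProduct_smul, hb', smul_eq_mul, mul_one, sub_self])
      rw [Matrix.mulVec_sub, Matrix.mulVec_smul, sub_eq_iff_eq_add] at h1
      rw [h1, Matrix.add_mulVec, Matrix.one_mulVec, vecMulVec_mulVec, op_smul_eq_smul]
      simp only [c, smul_sub]
      abel
    have hs2 : (s : Matrix (Fin m × Idx m t) (Fin m × Idx m t) F) = 1 + nm c φ 1 := by
      rw [hAτ, hτe, kronecker_smul, ← smul_kronecker, ← hA', hAe, add_kronecker, one_kronecker_one]; rfl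
    have hc0 : c ≠ 0 := fun h => hs1 (Units.ext (by rw [hs2, h, nm, zero_vecMulVec, zero_kronecker, add_zero]; rfl))
    rw [hs2, Matrix.add_mulVec, Matrix.one_mulVec, nm_mulVec, Matrix.one_mulVec, add_eq_left] at hw
    exact pl_eq_zero hc0 hw
  have hroots : ∀ c, φ ⬝ᵥ c = 0 → ∃ s ∈ S, (s : Matrix (Fin m × Idx m t) (Fin m × Idx m t) F) = 1 + nm c φ 1 := by
    intro c hc
    obtain ⟨s, hsM, hse⟩ := hR c φ hc
    refine ⟨s, ⟨hsM, fun w hw => ?_⟩, hse⟩
    rw [hse, Matrix.add_mulVec, Matrix.one_mulVec, nm_mulVec, Matrix.one_mulVec, mem_kK.1 hw, map_zero, add_zero]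
  have hSG : S ≤ G := fun s hs => ⟨hs.1, fun w hw => hs.2 w hw.1⟩
  let H : Subgroup G := S.subgroupOf G
  have hFrob : Cfsg.IsFrobeniusComplement H := by
    refine ⟨?_, ?_, ?_⟩
    · intro hbot
      obtain ⟨s, hsS, hse⟩ := hroots a₀ ha₀φ
      have h1 : (⟨s, hSG hsS⟩ : G) = 1 := Subgroup.mem_bot.1 (hbot ▸ (hsS : (⟨s, hSG hsS⟩ : G) ∈ H))
      have h2 : (s : Matrix (Fin m × Idx m t) (Fin m × Idx m t) F) = 1 := by
        rw [show s = 1 from congrArg Subtype.val h1]; rfl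
      rw [hse, add_eq_left] at h2
      obtain ⟨w, hw⟩ := exists_dot_eq_one' hφ
      have h3 := congrArg (· *ᵥ pl w (Pi.single (0 : Idx m t) 1)) h2
      simp only [nm_mulVec, ct_pl, hw, one_smul, Matrix.one_mulVec, Matrix.zero_mulVec] at h3
      simpa using congrFun (pl_eq_zero ha₀ h3) 0
    · intro htop
      obtain ⟨h, hhM, hhe⟩ := in_ms_rx (i := i).2 (In.conj hgM (hF.root j b ψ hbψ))
      rw [map_add, map_one, ← hY] at hhe
      have hh : h ∈ G := ⟨hhM, fun w hw => by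
        rw [hhe, Matrix.add_mulVec, Matrix.one_mulVec, mem_KK.1 hw.2, add_zero]⟩
      have hhS : (⟨h, hh⟩ : G) ∈ H := htop ▸ Subgroup.mem_top _
      have hle : kK φ ≤ Fp := fun w hw => mem_KK.2 (by
        have h1 := (Subgroup.mem_subgroupOf.1 hhS).2 w hw
        rwa [hhe, Matrix.add_mulVec, Matrix.one_mulVec, add_eq_left] at h1)
      have heq := Submodule.eq_of_le_of_finrank_le hle (by omega)
      refine hng (isMonomial_of_maps (i := i) (j := j) hm ht IH hF hSL (ConjIn.of_mem hF hgM) ha₀ hφ hb hψ fun w hw => ?_)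
      rw [slot_mulVec_eq_zero ha₀, ← mem_kK, heq, hFp, mem_KK, rx_mulVec_tvec, LinearEquiv.map_eq_zero_iff, hY,
        ← Matrix.mulVec_mulVec, GeomClasses.gl_inv_mulVec_mulVec, ← Matrix.mulVec_mulVec, hw, Matrix.mulVec_zero]
    · intro x hx
      rw [eq_bot_iff]
      rintro y ⟨hy1, hy2⟩
      rw [Subgroup.mem_bot]
      by_contra hy0
      obtain ⟨y', hy', rfl⟩ := Subgroup.mem_map.1 (by simpa [Subgroup.pointwise_smul_def] using hy2 :
        y ∈ H.map (MulAut.conj x).toMonoidHom)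
      refine hx (hstab x x.2 fun w hw => hfix _ hy1 (fun h => hy0 (Subtype.ext h)) _ ?_)
      show Units.val ((x * y' * x⁻¹ : G) : GL (Fin m × Idx m t) F) *ᵥ _ = _
      rw [Subgroup.coe_mul, Subgroup.coe_mul, Subgroup.coe_inv, GeomClasses.gl_mul_mulVec,
        GeomClasses.gl_mul_mulVec, GeomClasses.gl_inv_mulVec_mulVec]
      exact congrArg _ ((Subgroup.mem_subgroupOf.1 hy').2 w (mem_kK.2 hw))
  obtain ⟨N, -, hN, hNH⟩ := Frobenius.exists_normal_kernel hFrob
  have hWperp : ∀ c ∈ LinearMap.ker (dotProductBilin F F φ), φ ⬝ᵥ c = 0 := fun c hc => LinearMap.mem_ker.1 hc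
  let RL := rootLine (μ := Idx m t) φ _ hWperp
  have hRLS : RL ≤ S := by
    rintro s ⟨c, hc, hse⟩
    obtain ⟨s', hs', hse'⟩ := hroots c (hWperp c hc)
    rwa [show s = s' from Units.ext (hse.trans hse'.symm)]
  let L : Subgroup G := RL.subgroupOf G
  haveI : IsMulCommutative L := ⟨⟨fun x y => by
    obtain ⟨c, hc, hx⟩ := x.2
    obtain ⟨c', hc', hy⟩ := y.2
    apply Subtype.ext; apply Subtype.ext; apply Units.ext
    simp only [Subgroup.coe_mul, Units.val_mul, Subgroup.coe_subtype] at hx hy ⊢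
    rw [hx, hy]
    simp only [add_mul, mul_add, one_mul, mul_one, nm_mul, hWperp c hc, hWperp c' hc', zero_smul, add_zero]
    abel⟩⟩
  obtain ⟨s₀, hs₀⟩ := (Frobenius.isCyclic_le_complement_of_commutative hFrob (K := N) hNH (L := L)
    (fun x hx => hRLS hx)).exists_generator
  obtain ⟨c₀, hc₀, hs₀e⟩ := s₀.2
  have hsmall : ∀ c, φ ⬝ᵥ c = 0 → ∃ k : F, c = k • c₀ := by
    intro c hc
    obtain ⟨s, hsS, hse⟩ := hroots c hc
    have hsR : s ∈ RL := ⟨c, LinearMap.mem_ker.2 hc, hse⟩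
    obtain ⟨k, hk⟩ := Subgroup.mem_zpowers_iff.1 (hs₀ ⟨⟨s, hSG hsS⟩, hsR⟩)
    have hline : (((s₀ : G) : GL (Fin m × Idx m t) F)) ∈
        rootLine (μ := Idx m t) φ (Submodule.span F {c₀}) (fun w hw => by
          obtain ⟨k, rfl⟩ := Submodule.mem_span_singleton.1 hw
          rw [dotProduct_smul, hWperp c₀ hc₀, smul_zero]) :=
      ⟨c₀, Submodule.mem_span_singleton_self c₀, hs₀e⟩
    have h1 := Subgroup.zpow_mem _ hline k
    rw [← Subgroup.coe_zpow, ← Subgroup.coe_zpow, hk] at h1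
    obtain ⟨w, hw, hwe⟩ := h1
    obtain ⟨k', rfl⟩ := Submodule.mem_span_singleton.1 hw
    refine ⟨k', ?_⟩
    simp only [hse, add_right_inj] at hwe
    obtain ⟨w', hw'⟩ := exists_dot_eq_one' hφ
    have h3 := congrArg (· *ᵥ pl w' (Pi.single (0 : Idx m t) 1)) hwe
    simp only [nm_mulVec, ct_pl, hw', one_smul, Matrix.one_mulVec] at h3
    funext l
    simpa [pl] using congrFun h3 (l, 0)
  obtain ⟨c₁, hc₁φ, hind⟩ := exists_perp_indep hm φ c₀
  rw [dotProduct_comm] at hc₁φ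
  obtain ⟨k, hk⟩ := hsmall c₁ hc₁φ
  exact hind k hk

/-- Everything conjugating the root elements into the group is monomial. -/
theorem rigidity (hm : 3 ≤ m) : ∀ t, 1 ≤ t → Rigidity F m t := by
  intro t ht
  induction t with
  | zero => omega
  | succ t ih =>
    rcases Nat.eq_zero_or_pos t with rfl | ht'
    · exact fun M _ _ g _ => isMonomial_of_one g
    intro M hF hSL g hg
    by_contra hng
    haveI : NeZero m := ⟨by omega⟩
    obtain ⟨φ, -, -, z, hz, -, hnz⟩ := exists_not_isMonomial hm ht' (ih ht') hF hSL hg hng 0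
      (a := Pi.single (0 : Fin m) 1) (by simp)
    exact hnz (forall_mem_isMonomial hm ht' (ih ht') hF hSL z hz)

end finite

end CfsgLib.TensorWreathMax
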