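import Mathlib
import Cfsg.Agent.Lib.TensorWreathMax.Main

/-!
The tensor wreath group intersected with the special linear group has all root elements, and the
permutations of the factors up to scalars.
-/

set_option autoImplicit false
set_option linter.unusedSectionVars false
set_option linter.unusedSimpArgs false

namespace CfsgLib.TensorWreathMax

open Matrix
open scoped Kronecker
open CfsgLib.Maximal.TensorPower

variable {F : Type*} [Field F] {m t : ℕ}

theorem det_slot (i : Fin t) (X : Matrix (Fin m) (Fin m) F) (h : X.det = 1) :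
    (slot i X : Matrix (Idx m t) (Idx m t) F).det = 1 := by
  cases t with
  | zero => exact i.elim0
  | succ t =>
    rw [← Matrix.det_reindex_self (split i), show Matrix.reindex (split i) (split i) (slot i X) = rx i (slot i X) from rfl,
      rx_slot_same, Matrix.det_kronecker, h, Matrix.det_one, one_pow, one_pow, mul_one]

theorem rx_permM_swap (l : Fin (t + 1)) (j k : Fin t) :
    rx l (permM (Equiv.swap (l.succAbove j) (l.succAbove k)) : Matrix (Idx m (t + 1)) (Idx m (t + 1)) F) =
      (1 : Matrix (Fin m) (Fin m) F) ⊗ₖ permM (Equiv.swap j k) := by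
  ext ⟨a, x⟩ ⟨b, y⟩
  simp only [Matrix.kroneckerMap_apply, Matrix.reindexAlgEquiv_apply, Matrix.reindex_apply,
    Matrix.submatrix_apply, permM, Matrix.one_apply, split_symm_apply, Equiv.symm_swap]
  have e : l.insertNth a x ∘ Equiv.swap (l.succAbove j) (l.succAbove k) =
      l.insertNth a (x ∘ Equiv.swap j k) := by
    funext q
    rcases Fin.eq_self_or_eq_succAbove l q with rfl | ⟨q, rfl⟩
    · simp [Equiv.swap_apply_of_ne_of_ne (Fin.ne_succAbove q j) (Fin.ne_succAbove q k)]
    · simp only [Function.comp_apply]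
      rw [← Fin.succAbove_right_injective.map_swap]
      simp
  simp only [e, Fin.insertNth_inj]
  by_cases h1 : a = b <;> by_cases h2 : y = x ∘ ⇑(Equiv.swap j k) <;> simp [h1, h2, Ne.symm]

theorem exists_det_smul_permM (hm : 3 ≤ m) (ht : 3 ≤ t) (j k : Fin t) (hjk : j ≠ k) :
    ∃ c : F, c ≠ 0 ∧ (c • (permM (Equiv.swap j k) : Matrix (Idx m t) (Idx m t) F)).det = 1 := by
  classical
  obtain ⟨t, rfl⟩ : ∃ s, t = s + 1 := ⟨t - 1, by omega⟩
  have hsq := congrArg Matrix.det (permM_mul_self (F := F) (m := m) (Equiv.swap_mul_self j k))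
  rw [Matrix.det_mul, Matrix.det_one, mul_self_eq_one_iff] at hsq
  rcases hsq with h | h
  · exact ⟨1, one_ne_zero, by rwa [one_smul]⟩
  rcases Nat.even_or_odd m with hm2 | hm2
  · refine ⟨1, one_ne_zero, ?_⟩
    obtain ⟨l, hlj, hlk⟩ : ∃ l : Fin (t + 1), l ≠ j ∧ l ≠ k := by
      by_contra hcon
      push Not at hcon
      have : (Finset.univ : Finset (Fin (t + 1))) ⊆ {j, k} := fun s _ => by
        by_cases h1 : s = j
        · simp [h1]
        · simp [hcon s h1]
      have := (Finset.card_le_card this).trans Finset.card_le_two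
      simp at this
      omega
    obtain ⟨j', rfl⟩ := Fin.exists_succAbove_eq hlj.symm
    obtain ⟨k', rfl⟩ := Fin.exists_succAbove_eq hlk.symm
    have hjk' : j' ≠ k' := fun h => hjk (by rw [h])
    have hsq' := congrArg Matrix.det (permM_mul_self (F := F) (m := m) (Equiv.swap_mul_self j' k'))
    rw [Matrix.det_mul, Matrix.det_one, mul_self_eq_one_iff] at hsq'
    rw [one_smul, ← Matrix.det_reindex_self (split l), show ∀ X : Matrix (Idx m (t + 1)) (Idx m (t + 1)) F,
      Matrix.reindex (split l) (split l) X = rx l X from fun X => rfl, rx_permM_swap, Matrix.det_kronecker,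
      Matrix.det_one, one_pow, one_mul, Fintype.card_fin]
    rcases hsq' with h' | h' <;> rw [h']
    · exact one_pow m
    · exact hm2.neg_one_pow
  · refine ⟨-1, neg_ne_zero.2 one_ne_zero, ?_⟩
    rw [Matrix.det_smul, h, Odd.neg_one_pow (by simp only [Fintype.card_fun, Fintype.card_fin]; exact hm2.pow),
      neg_one_mul, neg_neg]

/-- The tensor wreath group in the special linear group. -/
theorem full_of_le (hm : 3 ≤ m) {M : Subgroup (GL (Idx m t) F)}
    (hM : Cfsg.Geo.tensorWreathStandard m t F ⊓ Cfsg.Geo.specialLinear (Idx m t) F ≤ M) : Full M := by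
  classical
  have hmem : ∀ X : Matrix (Idx m t) (Idx m t) F, X.det = 1 → (∃ σ as, Mon X σ as) → In M X := by
    rintro X hX ⟨σ, as, h⟩
    let g : GL (Idx m t) F := GeneralLinearGroup.mkOfDetNeZero X (by rw [hX]; exact one_ne_zero)
    exact ⟨g, hM ⟨mem_standard ⟨σ, as, h⟩, GeomClasses.mem_specialLinear.2 hX⟩, rfl⟩
  refine ⟨fun i a φ h => ?_, fun ht j k hjk => ?_⟩
  · have e : 1 + slot i (vecMulVec a φ) = slot i ((GeomClasses.tv a φ : GL (Fin m) F) : Matrix (Fin m) (Fin m) F) := by
      rw [GeomClasses.tv_val h, map_add, slot_one]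
    rw [e]
    refine hmem _ (det_slot i _ (GeomClasses.mem_specialLinear.1 (GeomClasses.tv_mem_specialLinear a φ)))
      ⟨1, Function.update 1 i (GeomClasses.tv a φ), fun xs => ?_⟩
    rw [slot_mulVec]
    congr 1
    funext l
    rcases eq_or_ne l i with rfl | hl
    · simp
    · simp [hl]
  · obtain ⟨c, hc, hdet⟩ := exists_det_smul_permM (F := F) hm ht j k hjk
    refine ⟨c, hc, hmem _ hdet ⟨Equiv.swap j k,
      fun i => if i = j then Units.map (Matrix.scalar (Fin m) : F →+* Matrix (Fin m) (Fin m) F).toMonoidHom (Units.mk0 c hc)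
        else 1, fun xs => ?_⟩⟩
    rw [Matrix.smul_mulVec, permM_mulVec]
    funext a
    simp only [tp, Pi.smul_apply, smul_eq_mul]
    rw [← Finset.mul_prod_erase _ _ (Finset.mem_univ j), ← Finset.mul_prod_erase (s := Finset.univ) (a := j)
      (f := fun i => _) (Finset.mem_univ j), ← mul_assoc]
    congr 1
    · simp [Matrix.scalar_apply, Matrix.mulVec_diagonal]
    · refine Finset.prod_congr rfl fun i hi => ?_
      simp [Finset.ne_of_mem_erase hi]

end CfsgLib.TensorWreathMax
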